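import Mathlib

/-!
# Components of the spectrum and free actions on cosets
-/

set_option autoImplicit false

namespace CfsgLib.SmallGroups.PSLSpectrum

variable {G : Type*} [Group G] [Finite G]

omit [Finite G] in
/-- If the element orders divide `n` or `a`, with `n` and `a` coprime, then an element commuting with a
non-trivial element of order dividing `n` has order dividing `n`. -/
theorem dvd_of_commute {n a : ℕ} (hco : n.Coprime a)
    (hspec : ∀ g : G, orderOf g ∣ n ∨ orderOf g ∣ a) {g h : G} (hc : Commute g h) (h1 : h ≠ 1)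
    (hh : orderOf h ∣ n) : orderOf g ∣ n := by
  rcases hspec g with hg | hg
  · exact hg
  have hcop : (orderOf g).Coprime (orderOf h) :=
    ((hco.coprime_dvd_left hh).coprime_dvd_right hg).symm
  have hord := hc.orderOf_mul_eq_mul_orderOf_of_coprime hcop
  rcases hspec (g * h) with he | he <;> rw [hord] at he
  · exact (dvd_mul_right _ _).trans he
  · exfalso
    exact h1 (orderOf_eq_one_iff.1
      (Nat.eq_one_of_dvd_coprimes hco hh ((dvd_mul_left _ _).trans he)))

/-- Under the same hypothesis the centraliser order divides every cofactor. -/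
theorem card_centralizer_dvd {n a b c : ℕ} (hco : n.Coprime a)
    (hspec : ∀ g : G, orderOf g ∣ n ∨ orderOf g ∣ a) (hG : Nat.card G = b * c)
    (hnb : n.Coprime b) {h : G} (h1 : h ≠ 1) (hh : orderOf h ∣ n) :
    Nat.card (Subgroup.centralizer ({h} : Set G)) ∣ c := by
  refine Nat.Coprime.dvd_of_dvd_mul_left ?_ (hG ▸ Subgroup.card_subgroup_dvd_card _)
  refine Nat.coprime_of_dvd fun r hr h2 h3 => ?_
  haveI := Fact.mk hr
  obtain ⟨x, hx⟩ := exists_prime_orderOf_dvd_card' r h2
  have hxn : r ∣ n := by
    rw [← hx, ← Subgroup.orderOf_coe]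
    exact dvd_of_commute hco hspec (Subgroup.mem_centralizer_singleton_iff.1 x.2) h1 hh
  exact hr.one_lt.ne' (Nat.eq_one_of_dvd_coprimes hnb hxn h3)

omit [Finite G] in
theorem dvd_card_of_free {D X : Type*} [Group D] [MulAction D X] [Finite D] [Finite X]
    (h : ∀ (d : D) (x : X), d • x = x → d = 1) : Nat.card D ∣ Nat.card X := by
  have := Fintype.ofFinite (Quotient (MulAction.orbitRel D X))
  rw [Nat.card_congr (MulAction.selfEquivSigmaOrbitsQuotientStabilizer D X), Nat.card_sigma]
  refine Finset.dvd_sum fun i _ => ?_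
  have hs : MulAction.stabilizer D i.out = ⊥ :=
    (Subgroup.eq_bot_iff_forall _).2 fun d hd => h d _ hd
  rw [hs]
  exact (Nat.card_congr (QuotientGroup.quotientBot (G := D)).toEquiv).symm.dvd

/-- A subgroup `A ≤ N` which only meets `N` in conjugates by elements of `N` acts freely on the other
cosets of `N`, so `[G : N] ≡ 1` modulo `|A|`. -/
theorem index_modEq_one (A N : Subgroup G) (hAN : A ≤ N)
    (h : ∀ a ∈ A, a ≠ 1 → ∀ g : G, g⁻¹ * a * g ∈ N → g ∈ N) :
    N.index ≡ 1 [MOD Nat.card A] := by
  classical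
  let S : Set (G ⧸ N) := {x | x ≠ ((1 : G) : G ⧸ N)}
  letI : MulAction A S :=
    { smul := fun a x => ⟨(a : G) • (x : G ⧸ N), fun e => x.2 (by
        have h1 := congrArg ((a : G)⁻¹ • ·) e
        simp only [inv_smul_smul] at h1
        rw [h1]
        show ((((a : G)⁻¹ * 1 : G)) : G ⧸ N) = _
        rw [mul_one, QuotientGroup.eq, inv_inv, mul_one]
        exact hAN a.2)⟩
      one_smul := fun x => Subtype.ext (one_smul G (x : G ⧸ N))
      mul_smul := fun a b x => Subtype.ext (mul_smul (a : G) (b : G) (x : G ⧸ N)) }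
  have hfree : ∀ (a : A) (x : S), a • x = x → a = 1 := by
    intro a x hx
    by_contra ha
    obtain ⟨⟨y⟩, hy⟩ := x
    have h1 : (a : G) • ((y : G) : G ⧸ N) = ((y : G) : G ⧸ N) := congrArg Subtype.val hx
    have h2 : ((a : G) * y)⁻¹ * y ∈ N := QuotientGroup.eq.1 h1
    have h3 : y⁻¹ * (a : G) * y ∈ N := by
      have := inv_mem h2
      rwa [mul_inv_rev, inv_inv, ← mul_assoc] at this
    apply hy
    show ((y : G) : G ⧸ N) = _
    rw [QuotientGroup.eq, mul_one]
    exact inv_mem (h a a.2 (fun e => ha (Subtype.ext e)) y h3)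
  have hd := dvd_card_of_free hfree
  have hcard : N.index = Nat.card S + 1 := by
    rw [Subgroup.index, ← Set.ncard_univ, ← Set.ncard_sdiff_singleton_add_one (Set.mem_univ ((1 : G) : G ⧸ N))]
    congr 1
    show _ = Nat.card S
    rw [Nat.card_coe_set_eq]
    congr 1
    ext x
    simp [S]
  rw [hcard]
  obtain ⟨k, hk⟩ := hd
  rw [hk]
  simpa using (Nat.modEq_zero_iff_dvd.2 (dvd_mul_right (Nat.card A) k)).add_right 1

end CfsgLib.SmallGroups.PSLSpectrum
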