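import Cfsg.Agent.Lib.SmallGroups.PSLSpectrum.Simple
import Cfsg.Agent.Lib.SmallGroups.Basic
import Cfsg.Agent.Lib.Invol.KleinInSimple
import Cfsg.Agent.Lib.PGroup.SelfCentSimple.Recognise
import Cfsg.Agent.S0111
import Cfsg.Agent.S0205
import Cfsg.Agent.S3282

/-!
# The involution centraliser in a group with the order and element orders of `PSL(2, q)`, `q` odd
-/

set_option autoImplicit false

namespace CfsgLib.SmallGroups.PSLSpectrum

open Subgroup
open scoped commutatorElement

universe u

variable {G : Type u} [Group G] {p q m k : ℕ}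

/-- A cyclic group has at most one involution. -/
theorem unique_invol [Finite G] {x a b : G} (ha : a ∈ zpowers x) (hb : b ∈ zpowers x)
    (ha2 : orderOf a = 2) (hb2 : orderOf b = 2) : a = b :=
  CfsgLib.Invol.mem_zpowers_unique_involution ha hb ha2 hb2

namespace Hyp

variable (H : Hyp G p q m k) [Finite G]

include H

theorem no_index_two : ∀ M : Subgroup G, M.index ≠ 2 := by
  haveI := H.isSimpleGroup
  refine CfsgLib.SmallGroups.index_ne_two_of_simple (CfsgLib.SmallGroups.not_isMulCommutative_of_not_prime ?_)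
  rw [H.card]
  intro h
  have h2 := H.two_le_m
  have h3 := H.k_three
  exact Nat.not_prime_mul (a := 2 * q * m) (by have := H.q_eq; nlinarith) (by omega) h

theorem exists_sylow_cyclic {x : G} (hx : orderOf x = m) :
    ∃ (S : Sylow 2 G) (j : ℕ), Odd j ∧ x ^ j ∈ (S : Subgroup G) ∧
      (zpowers (x ^ j)).relIndex (S : Subgroup G) = 2 ∧ x ^ (m / 2) ∈ zpowers (x ^ j) := by
  haveI : Fact (Nat.Prime 2) := ⟨Nat.prime_two⟩
  have hm0 : m ≠ 0 := by have := H.two_le_m; omega
  obtain ⟨a, j, hj, hm⟩ := Nat.exists_eq_two_pow_mul_odd hm0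
  have ha : a ≠ 0 := by
    rintro rfl
    rw [pow_zero, one_mul] at hm
    exact Nat.not_even_iff_odd.2 (hm ▸ hj) H.m_even
  have hj0 : j ≠ 0 := by rintro rfl; simp at hm; exact hm0 hm
  have hc : orderOf (x ^ j) = 2 ^ a := by
    rw [orderOf_pow_of_dvd hj0 ⟨2 ^ a, by rw [hx, hm, mul_comm]⟩, hx, hm,
      Nat.mul_div_cancel _ (Nat.pos_of_ne_zero hj0)]
  obtain ⟨S, hS⟩ := (IsPGroup.of_card (n := a) (by rw [Nat.card_zpowers, hc] :
    Nat.card (zpowers (x ^ j)) = 2 ^ a)).exists_le_sylow
  have hSc : Nat.card (S : Subgroup G) = 2 ^ (a + 1) :=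
    CfsgLib.SmallGroups.card_sylow_eq (m := q * k * j)
      (by rw [H.card, hm, pow_succ]; ring)
      (by
        rw [← even_iff_two_dvd, Nat.not_even_iff_odd]
        exact (H.q_odd.mul H.k_odd).mul hj) S
  refine ⟨S, j, hj, hS (mem_zpowers _), ?_, ?_⟩
  · have h := Subgroup.card_mul_index ((zpowers (x ^ j)).subgroupOf (S : Subgroup G))
    rw [Nat.card_congr (Subgroup.subgroupOfEquivOfLe hS).toEquiv, Nat.card_zpowers, hc, hSc,
      pow_succ] at h
    exact Nat.eq_of_mul_eq_mul_left (pow_pos two_pos a) h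
  · obtain ⟨b, rfl⟩ : ∃ b, a = b + 1 := ⟨a - 1, by omega⟩
    refine ⟨(2 ^ b : ℕ), ?_⟩
    show (x ^ j) ^ ((2 ^ b : ℕ) : ℤ) = _
    rw [zpow_natCast, ← pow_mul]
    congr 1
    rw [hm, pow_succ, show 2 ^ b * 2 * j = j * 2 ^ b * 2 by ring, Nat.mul_div_cancel _ two_pos]

theorem orderOf_half {x : G} (hx : orderOf x = m) : orderOf (x ^ (m / 2)) = 2 := by
  obtain ⟨j, hj⟩ := H.m_even
  have := H.two_le_m
  rw [orderOf_pow_of_dvd (by omega) ⟨2, by rw [hx]; omega⟩, hx]
  rw [show m / 2 = j by omega, hj, show j + j = 2 * j by ring,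
    Nat.mul_div_cancel _ (by omega : 0 < j)]

/-- All involutions are conjugate. -/
theorem isConj_involution {x w : G} (hx : orderOf x = m) (hw : orderOf w = 2) :
    IsConj w (x ^ (m / 2)) := by
  haveI : Fact (Nat.Prime 2) := ⟨Nat.prime_two⟩
  obtain ⟨S, j, -, hcS, hidx, htc⟩ := H.exists_sylow_cyclic hx
  set c := x ^ j
  obtain ⟨T, hT⟩ := (IsPGroup.of_card (n := 1) (by rw [Nat.card_zpowers, hw, pow_one] :
    Nat.card (zpowers w) = 2 ^ 1)).exists_le_sylow
  obtain ⟨g, hg⟩ := MulAction.exists_smul_eq G T S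
  have hwS : g * w * g⁻¹ ∈ (S : Subgroup G) := by
    rw [← hg, Sylow.coe_subgroup_smul]
    exact Subgroup.mem_map.2 ⟨w, hT (mem_zpowers w), rfl⟩
  have hw2 : orderOf (g * w * g⁻¹) = 2 := by
    rw [show g * w * g⁻¹ = MulAut.conj g w from rfl, MulEquiv.orderOf_eq, hw]
  by_cases hc : g * w * g⁻¹ ∈ zpowers c
  · exact isConj_iff.2 ⟨g, unique_invol hc htc hw2 (H.orderOf_half hx)⟩
  · rcases Cfsg.Agent.S0111.result S _ (zpowers_le.2 hcS) hidx _ hw2 hwS hc with
      ⟨M, -, hM, -⟩ | ⟨l, hl⟩
    · exact absurd hM (H.no_index_two M)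
    · refine isConj_iff.2 ⟨l * g, unique_invol ?_ htc ?_ (H.orderOf_half hx)⟩
      · rwa [show l * g * w * (l * g)⁻¹ = l * (g * w * g⁻¹) * l⁻¹ by group]
      · rw [show l * g * w * (l * g)⁻¹ = MulAut.conj (l * g) w from rfl, MulEquiv.orderOf_eq, hw]

/-- The centraliser of the involution in `⟨x⟩` has order `2 m` and contains an outer involution. -/
theorem centralizer_invol {x : G} (hx : orderOf x = m) :
    Nat.card (centralizer ({x ^ (m / 2)} : Set G)) = 2 * m ∧
      ∃ s : G, orderOf s = 2 ∧ s ∈ centralizer ({x ^ (m / 2)} : Set G) ∧ s ∉ zpowers x := by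
  classical
  haveI := H.isSimpleGroup
  have hG : ¬ IsCyclic G := fun h => by
    have h1 : IsMulCommutative G := ⟨⟨fun a b => (IsCyclic.commGroup (α := G)).mul_comm a b⟩⟩
    have h2 := H.two_le_m
    have h3 := H.k_three
    refine CfsgLib.SmallGroups.not_isMulCommutative_of_not_prime ?_ h1
    rw [H.card]
    exact Nat.not_prime_mul (by have := H.q_eq; nlinarith) (by omega)
  obtain ⟨E, hE⟩ := CfsgLib.Invol.exists_kleinFour_of_simple
    (fun G' _ _ h => Cfsg.Agent.S0205.result h) hG
  haveI := Fintype.ofFinite E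
  obtain ⟨a, b, c, hab, -, -⟩ : ∃ a b c : E, a ≠ b ∧ a ≠ c ∧ b ≠ c :=
    Fintype.two_lt_card_iff.1 (by rw [← Nat.card_eq_fintype_card, hE.card_four]; norm_num)
  obtain ⟨e, f, he, hf, hef⟩ : ∃ e f : E, e ≠ 1 ∧ f ≠ 1 ∧ e ≠ f := by
    by_contra hh
    push Not at hh
    obtain ⟨a', b', c', h1, h2, h3⟩ : ∃ a b c : E, a ≠ b ∧ a ≠ c ∧ b ≠ c :=
      Fintype.two_lt_card_iff.1 (by rw [← Nat.card_eq_fintype_card, hE.card_four]; norm_num)
    by_cases ha : a' = 1
    · exact h3 (hh b' c' (fun e => h1 (ha.trans e.symm)) (fun e => h2 (ha.trans e.symm)))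
    · by_cases hb : b' = 1
      · exact h2 (hh a' c' ha (fun e => h3 (hb.trans e.symm)))
      · exact h1 (hh a' b' ha hb)
  have ord2 : ∀ z : E, z ≠ 1 → orderOf (z : G) = 2 := fun z hz => by
    rw [Subgroup.orderOf_coe]
    refine orderOf_eq_prime (orderOf_dvd_iff_pow_eq_one.1 ?_) hz
    exact hE.exponent_two ▸ Monoid.order_dvd_exponent z
  obtain ⟨g, hg⟩ := isConj_iff.1 (H.isConj_involution hx (ord2 e he))
  set t := x ^ (m / 2) with ht
  set s := g * (f : G) * g⁻¹ with hs
  have hs2 : orderOf s = 2 := by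
    rw [hs, show g * (f : G) * g⁻¹ = MulAut.conj g (f : G) from rfl, MulEquiv.orderOf_eq, ord2 f hf]
  have hst : s * t = t * s := by
    have hc : (e : G) * f = f * e := by
      have h1 : e * f = f * e := by
        have := hE
        exact mul_comm_of_exponent_two hE.exponent_two e f
      exact congrArg Subtype.val h1
    rw [← hg, hs]
    calc g * (f : G) * g⁻¹ * (g * e * g⁻¹) = g * ((f : G) * e) * g⁻¹ := by group
      _ = g * ((e : G) * f) * g⁻¹ := by rw [hc]
      _ = _ := by group
  have hne : s ≠ t := fun h => hef (Subtype.ext (by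
    rw [← hg, hs] at h
    exact (mul_left_cancel (mul_right_cancel h)).symm))
  have hsX : s ∉ zpowers x := fun h => hne (unique_invol h (pow_mem (mem_zpowers x) _) hs2 (H.orderOf_half hx))
  have hsC : s ∈ centralizer ({t} : Set G) := mem_centralizer_singleton_iff.2 hst
  refine ⟨?_, s, hs2, hsC, hsX⟩
  have hXC : zpowers x ≤ centralizer ({t} : Set G) := by
    rw [zpowers_le, mem_centralizer_singleton_iff]
    exact ((Commute.refl x).pow_right _).eq
  have hd := H.centralizer_card_m (h := t) (fun e => by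
    have := H.orderOf_half hx; rw [← ht, e, orderOf_one] at this; exact absurd this (by norm_num))
    (by rw [ht, H.orderOf_half hx]; exact even_iff_two_dvd.1 H.m_even)
  have hm : m ∣ Nat.card (centralizer ({t} : Set G)) := by
    rw [← hx, ← Nat.card_zpowers]; exact Subgroup.card_dvd_of_le hXC
  obtain ⟨l, hl⟩ := hm
  rw [hl] at hd ⊢
  have h2 : l ∣ 2 := Nat.dvd_of_mul_dvd_mul_left (k := m) (by have := H.two_le_m; omega)
    (by rwa [mul_comm 2 m] at hd)
  rcases (Nat.dvd_prime Nat.prime_two).1 h2 with rfl | rfl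
  · exfalso
    refine hsX ?_
    rw [Subgroup.eq_of_le_of_card_ge hXC (by rw [Nat.card_zpowers, hx, hl, mul_one])]
    exact hsC
  · ring

/-- The part of `⟨x⟩` fixed by an outer involution of the centraliser. -/
theorem fixed_le {x s : G} (hx : orderOf x = m) (hs : orderOf s = 2)
    (hst : s ∈ centralizer ({x ^ (m / 2)} : Set G)) (hsX : s ∉ zpowers x) {h : G}
    (hh : h ∈ zpowers x) (hhs : s * h = h * s) : h = 1 ∨ h = x ^ (m / 2) := by
  classical
  set t := x ^ (m / 2) with ht
  by_contra hne
  push Not at hne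
  obtain ⟨hh1, hht⟩ := hne
  have hs1 : s ≠ 1 := fun e => hsX (e ▸ one_mem _)
  -- the centraliser of `h` is the whole centraliser of `t`
  have hXC : zpowers x ≤ centralizer ({h} : Set G) := by
    rw [zpowers_le, mem_centralizer_singleton_iff]
    obtain ⟨i, rfl⟩ := hh
    exact ((Commute.refl x).zpow_right i).eq
  have hsh : s ∈ centralizer ({h} : Set G) := mem_centralizer_singleton_iff.2 hhs
  have hm0 : 0 < m := by have := H.two_le_m; omega
  have hcard : Nat.card (centralizer ({h} : Set G)) = 2 * m := by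
    obtain ⟨l, hl⟩ : m ∣ Nat.card (centralizer ({h} : Set G)) := by
      rw [← hx, ← Nat.card_zpowers]; exact Subgroup.card_dvd_of_le hXC
    have h2 : l ∣ 2 := Nat.dvd_of_mul_dvd_mul_left hm0 (by
      have := H.centralizer_card_m hh1 (hx ▸ orderOf_dvd_of_mem_zpowers hh)
      rwa [hl, mul_comm 2 m] at this)
    rcases (Nat.dvd_prime Nat.prime_two).1 h2 with rfl | rfl
    · exfalso
      refine hsX ?_
      rw [Subgroup.eq_of_le_of_card_ge hXC (by rw [Nat.card_zpowers, hx, hl, mul_one])]
      exact hsh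
    · rw [hl, mul_comm]
  have hsup : ∀ D : Subgroup G, zpowers x ≤ D → s ∈ D → Nat.card D ∣ 2 * m → Nat.card D = 2 * m := by
    intro D hXD hsD hd
    obtain ⟨l, hl⟩ : m ∣ Nat.card D := by
      rw [← hx, ← Nat.card_zpowers]; exact Subgroup.card_dvd_of_le hXD
    rw [hl, mul_comm 2 m] at hd
    rcases (Nat.dvd_prime Nat.prime_two).1 (Nat.dvd_of_mul_dvd_mul_left hm0 hd) with rfl | rfl
    · exfalso
      refine hsX ?_
      rw [Subgroup.eq_of_le_of_card_ge hXD (by rw [Nat.card_zpowers, hx, hl, mul_one])]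
      exact hsD
    · rw [hl, mul_comm]
  set D := closure (insert s (zpowers x : Set G)) with hD
  have hDle : ∀ K : Subgroup G, zpowers x ≤ K → s ∈ K → D ≤ K := fun K h1 h2 =>
    (closure_le _).2 (Set.insert_subset h2 h1)
  have hDt : D = centralizer ({t} : Set G) := by
    have h1 := hDle _ (by
      rw [zpowers_le, mem_centralizer_singleton_iff]
      exact ((Commute.refl x).pow_right _).eq) hst
    refine Subgroup.eq_of_le_of_card_ge h1 ?_
    rw [(H.centralizer_invol hx).1, hsup D (fun a ha => subset_closure (Set.mem_insert_of_mem _ ha))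
      (subset_closure (Set.mem_insert _ _))
      ((Subgroup.card_dvd_of_le h1).trans (dvd_of_eq (H.centralizer_invol hx).1))]
  have hth : centralizer ({t} : Set G) = centralizer ({h} : Set G) := by
    refine Subgroup.eq_of_le_of_card_ge (hDt ▸ hDle _ hXC hsh) ?_
    rw [hcard, (H.centralizer_invol hx).1]
  -- the centraliser of `s`, a conjugate of that of `t`
  obtain ⟨g, hg⟩ : ∃ g, g * s * g⁻¹ = t := isConj_iff.1 (H.isConj_involution hx hs)
  set x' := g⁻¹ * x * g with hx'
  have hox' : orderOf x' = m := by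
    rw [hx', show g⁻¹ * x * g = MulAut.conj g⁻¹ x by simp, MulEquiv.orderOf_eq, hx]
  have hs' : x' ^ (m / 2) = s := by
    have : x' = MulAut.conj g⁻¹ x := by simp [hx']
    rw [this, ← map_pow, ← ht, MulAut.conj_apply, ← hg]
    group
  obtain ⟨hcs, -⟩ := H.centralizer_invol hox'
  rw [hs'] at hcs
  have hX' : zpowers x' ≤ centralizer ({s} : Set G) := by
    rw [zpowers_le, mem_centralizer_singleton_iff, ← hs']
    exact ((Commute.refl x').pow_right _).eq
  have hidx' : ((zpowers x').subgroupOf (centralizer ({s} : Set G))).index = 2 := by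
    have h := Subgroup.card_mul_index ((zpowers x').subgroupOf (centralizer ({s} : Set G)))
    rw [Nat.card_congr (Subgroup.subgroupOfEquivOfLe hX').toEquiv, Nat.card_zpowers, hox', hcs,
      mul_comm 2 m] at h
    exact Nat.eq_of_mul_eq_mul_left hm0 h
  have hsq : ∀ a : G, a * s = s * a → a * a ∈ zpowers x' := fun a ha => by
    have := Subgroup.mul_self_mem_of_index_two hidx' ⟨a, mem_centralizer_singleton_iff.2 ha⟩
    simpa [Subgroup.mem_subgroupOf] using this
  -- `t` is not a power of `x'`
  have htX' : t ∉ zpowers x' := fun h' => hsX (by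
    have : t = s := unique_invol h' (hs' ▸ pow_mem (mem_zpowers x') _) (H.orderOf_half hx) hs
    exact this ▸ pow_mem (mem_zpowers x) _)
  -- so `h` has odd order up to a factor `t`
  have hh2 : h * h ≠ 1 := fun e => hht (unique_invol hh (pow_mem (mem_zpowers x) _)
    (orderOf_eq_prime (by rw [pow_two, e]) hh1) (H.orderOf_half hx))
  have hh2X' : h * h ∈ zpowers x' := hsq h hhs.symm
  have hh2m : orderOf (h * h) ∣ m := hox' ▸ orderOf_dvd_of_mem_zpowers hh2X'
  have htC : t ∈ centralizer ({h * h} : Set G) := by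
    rw [mem_centralizer_singleton_iff]
    obtain ⟨i, rfl⟩ := hh
    exact (((Commute.refl x).pow_left _).zpow_right i).mul_right
      (((Commute.refl x).pow_left _).zpow_right i)
  have hX'C : zpowers x' ≤ centralizer ({h * h} : Set G) := by
    rw [zpowers_le, mem_centralizer_singleton_iff]
    obtain ⟨i, hi⟩ := hh2X'
    rw [← hi]
    exact ((Commute.refl x').zpow_right i).eq
  have hC2 : Nat.card (centralizer ({h * h} : Set G)) ≤ 2 * m :=
    Nat.le_of_dvd (by omega) (H.centralizer_card_m hh2 hh2m)
  have hCt : centralizer ({t} : Set G) = centralizer ({h * h} : Set G) := by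
    refine Subgroup.eq_of_le_of_card_ge ?_ ((H.centralizer_invol hx).1 ▸ hC2)
    rw [hth]
    intro a ha
    rw [mem_centralizer_singleton_iff] at ha ⊢
    exact (Commute.mul_right ha ha).eq
  have hsC : centralizer ({s} : Set G) ≤ centralizer ({t} : Set G) := by
    have hts : t ∈ centralizer ({s} : Set G) :=
      mem_centralizer_singleton_iff.2 (mem_centralizer_singleton_iff.1 hst).symm
    rw [hCt]
    intro a ha
    by_cases haX : a ∈ zpowers x'
    · exact hX'C haX
    · have h4 := (Subgroup.mul_mem_iff_of_index_two hidx' (a := ⟨a, ha⟩) (b := ⟨t, hts⟩)).2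
        (by simp [Subgroup.mem_subgroupOf, haX, htX'])
      exact (Subgroup.mul_mem_cancel_right _ htC).1 (hX'C (by simpa [Subgroup.mem_subgroupOf] using h4))
  have hsteq : centralizer ({s} : Set G) = centralizer ({t} : Set G) :=
    Subgroup.eq_of_le_of_card_ge hsC (by rw [hcs, (H.centralizer_invol hx).1])
  -- `s` commutes with `x`, so the centraliser of `t` is abelian
  have hxs : x * s = s * x := mem_centralizer_singleton_iff.1
    (hsteq ▸ (mem_centralizer_singleton_iff.2 ((Commute.refl x).pow_right _).eq :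
      x ∈ centralizer ({t} : Set G)))
  have hidx : ((zpowers x).subgroupOf (centralizer ({t} : Set G))).index = 2 := by
    have hle : zpowers x ≤ centralizer ({t} : Set G) := hth ▸ hXC
    have h := Subgroup.card_mul_index ((zpowers x).subgroupOf (centralizer ({t} : Set G)))
    rw [Nat.card_congr (Subgroup.subgroupOfEquivOfLe hle).toEquiv, Nat.card_zpowers, hx,
      (H.centralizer_invol hx).1, mul_comm 2 m] at h
    exact Nat.eq_of_mul_eq_mul_left hm0 h
  set A := centralizer ({t} : Set G) with hA
  have hAab : ∀ a ∈ A, ∀ b ∈ A, Commute a b := by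
    have hxA : ∀ a ∈ A, Commute x a := by
      intro a ha
      by_cases haX : a ∈ zpowers x
      · obtain ⟨i, rfl⟩ := haX
        exact (Commute.refl x).zpow_right i
      · have h4 := (Subgroup.mul_mem_iff_of_index_two hidx (a := ⟨a, ha⟩) (b := ⟨s, hst⟩)).2
          (by simp [Subgroup.mem_subgroupOf, haX, hsX])
        obtain ⟨i, hi⟩ : a * s ∈ zpowers x := by simpa [Subgroup.mem_subgroupOf] using h4
        simp only at hi
        have h5 : a = x ^ i * s⁻¹ := by rw [hi, mul_inv_cancel_right]
        rw [h5]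
        exact ((Commute.refl x).zpow_right i).mul_right (Commute.inv_right hxs)
    have hsA : ∀ a ∈ A, Commute s a := fun a ha =>
      (mem_centralizer_singleton_iff.1 (hsteq.ge ha)).symm
    intro a ha b hb
    by_cases haX : a ∈ zpowers x
    · obtain ⟨i, rfl⟩ := haX
      exact (hxA b hb).zpow_left i
    · have h4 := (Subgroup.mul_mem_iff_of_index_two hidx (a := ⟨a, ha⟩) (b := ⟨s, hst⟩)).2
        (by simp [Subgroup.mem_subgroupOf, haX, hsX])
      obtain ⟨i, hi⟩ : a * s ∈ zpowers x := by simpa [Subgroup.mem_subgroupOf] using h4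
      simp only at hi
      have h5 : a = x ^ i * s⁻¹ := by rw [hi, mul_inv_cancel_right]
      rw [h5]
      exact ((hxA b hb).zpow_left i).mul_left (hsA b hb).inv_left
  -- the three involutions
  have hinv : ∀ a ∈ A, orderOf a = 2 → a = t ∨ a = s ∨ a = t * s := by
    intro a ha ha2
    by_cases haX : a ∈ zpowers x
    · exact Or.inl (unique_invol haX (pow_mem (mem_zpowers x) _) ha2 (H.orderOf_half hx))
    · have h4 := (Subgroup.mul_mem_iff_of_index_two hidx (a := ⟨a, ha⟩) (b := ⟨s, hst⟩)).2
        (by simp [Subgroup.mem_subgroupOf, haX, hsX])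
      have hz : a * s ∈ zpowers x := by simpa [Subgroup.mem_subgroupOf] using h4
      have hzz : a * s * (a * s) = 1 := by
        have e := (hAab a ha s hst).eq
        have ea : a * a = 1 := by rw [← pow_two, ← ha2, pow_orderOf_eq_one]
        have es : s * s = 1 := by rw [← pow_two, ← hs, pow_orderOf_eq_one]
        calc a * s * (a * s) = a * (s * a) * s := by group
          _ = a * (a * s) * s := by rw [e]
          _ = (a * a) * (s * s) := by group
          _ = 1 := by rw [ea, es, one_mul]
      have es : s⁻¹ = s := inv_eq_of_mul_eq_one_left (by rw [← pow_two, ← hs, pow_orderOf_eq_one])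
      by_cases hz1 : a * s = 1
      · exact Or.inr (Or.inl (by rw [eq_inv_of_mul_eq_one_left hz1, es]))
      · refine Or.inr (Or.inr ?_)
        have h6 : a * s = t := unique_invol hz (pow_mem (mem_zpowers x) _)
          (orderOf_eq_prime (by rw [pow_two, hzz]) hz1) (H.orderOf_half hx)
        rw [← h6, mul_assoc, show s * s = 1 by rw [← pow_two, ← hs, pow_orderOf_eq_one],
          mul_one]
  set N := normalizer (A : Set G) with hN
  -- centralisers of the non-trivial elements of `A`
  have hCA : ∀ a ∈ A, a ≠ 1 → centralizer ({a} : Set G) = A := by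
    intro a ha a1
    have hle : A ≤ centralizer ({a} : Set G) := fun b hb =>
      mem_centralizer_singleton_iff.2 (hAab b hb a ha).eq
    have hdvd : orderOf a ∣ m := H.dvd_m_of_commute (hAab a ha t
      (mem_centralizer_singleton_iff.2 rfl))
      (fun e => by have := H.orderOf_half hx; rw [← ht, e, orderOf_one] at this; exact absurd this (by norm_num))
      (by rw [ht, H.orderOf_half hx]; exact even_iff_two_dvd.1 H.m_even)
    refine (Subgroup.eq_of_le_of_card_ge hle ?_).symm
    rw [(H.centralizer_invol hx).1]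
    exact Nat.le_of_dvd (by omega) (H.centralizer_card_m a1 hdvd)
  -- the normaliser permutes the three involutions faithfully
  have hquot : (A.subgroupOf N).index ∣ 6 ∧ Odd (A.subgroupOf N).index := by
    let V : Set G := {t, s, t * s}
    have hVA : ∀ a ∈ V, a ∈ A ∧ orderOf a = 2 := by
      intro a ha
      have htA : t ∈ A := mem_centralizer_singleton_iff.2 rfl
      rcases ha with rfl | rfl | rfl
      · exact ⟨htA, H.orderOf_half hx⟩
      · exact ⟨hst, hs⟩
      · refine ⟨mul_mem htA hst, orderOf_eq_prime ?_ ?_⟩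
        · rw [pow_two]
          calc t * s * (t * s) = t * (s * t) * s := by group
            _ = t * (t * s) * s := by rw [mem_centralizer_singleton_iff.1 hst]
            _ = (t * t) * (s * s) := by group
            _ = 1 := by
              rw [← pow_two, ← pow_two]
              conv_lhs => arg 2; rw [← hs, pow_orderOf_eq_one]
              rw [mul_one]
              conv_lhs => rw [← H.orderOf_half hx, ← ht, pow_orderOf_eq_one]
        · intro e
          have e' : t = s⁻¹ := eq_inv_of_mul_eq_one_left e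
          exact hsX (inv_mem_iff.1 (e' ▸ pow_mem (mem_zpowers x) _))
    have hVmem : ∀ (n : N) (a : V), (n : G) * a * (n : G)⁻¹ ∈ V := by
      intro n a
      obtain ⟨h1, h2⟩ := hVA a a.2
      exact hinv _ (((mem_normalizer_iff.1 n.2) _).1 h1) (by
        rw [show (n : G) * a * (n : G)⁻¹ = MulAut.conj (n : G) a from rfl, MulEquiv.orderOf_eq, h2])
    letI : MulAction N V :=
      { smul := fun n a => ⟨(n : G) * a * (n : G)⁻¹, hVmem n a⟩
        one_smul := fun a => Subtype.ext (by
          show ((1 : N) : G) * a * ((1 : N) : G)⁻¹ = a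
          simp)
        mul_smul := fun n n' a => Subtype.ext (by
          show ((n * n' : N) : G) * a * ((n * n' : N) : G)⁻¹ =
            (n : G) * ((n' : G) * a * (n' : G)⁻¹) * (n : G)⁻¹
          simp [mul_assoc]) }
    have hker : (MulAction.toPermHom N V).ker = A.subgroupOf N := by
      ext n
      rw [MonoidHom.mem_ker, mem_subgroupOf]
      constructor
      · intro hn
        have h1 := congrArg Subtype.val (Equiv.ext_iff.1 hn ⟨t, Or.inl rfl⟩)
        exact mem_centralizer_singleton_iff.2 (mul_inv_eq_iff_eq_mul.1 h1)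
      · intro hn
        refine Equiv.ext fun a => Subtype.ext ?_
        show (n : G) * a * (n : G)⁻¹ = a
        rw [(hAab _ hn a (hVA a a.2).1).eq, mul_inv_cancel_right]
    haveI : Finite V := Subtype.finite
    refine ⟨?_, ?_⟩
    · rw [← hker, Subgroup.index_ker]
      refine (Subgroup.card_subgroup_dvd_card _).trans ?_
      rw [Nat.card_perm]
      have h3 : Nat.card V ≤ 3 := by
        rw [Nat.card_coe_set_eq]
        exact (Set.ncard_insert_le _ _).trans (Nat.add_le_add_right
          ((Set.ncard_insert_le _ _).trans (by rw [Set.ncard_singleton])) 1)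
      exact (Nat.factorial_dvd_factorial h3).trans dvd_rfl
    · rw [← Nat.not_even_iff_odd, even_iff_two_dvd]
      intro h2
      have h4 : 2 * (2 * m) ∣ Nat.card G := by
        refine dvd_trans ?_ (Subgroup.card_subgroup_dvd_card N)
        rw [← (A.subgroupOf N).card_mul_index,
          Nat.card_congr (Subgroup.subgroupOfEquivOfLe (le_normalizer : A ≤ N)).toEquiv, hA,
          (H.centralizer_invol hx).1, mul_comm 2 (2 * m)]
        exact Nat.mul_dvd_mul_left _ h2
      rw [H.card, show 2 * q * m * k = q * k * (2 * m) by ring] at h4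
      have h5 := Nat.dvd_of_mul_dvd_mul_right (by omega) h4
      exact Nat.not_even_iff_odd.2 (H.q_odd.mul H.k_odd) (even_iff_two_dvd.2 h5)
  -- `t` and `s` are fused in the normaliser
  have hidx3 : (A.subgroupOf N).index = 3 := by
    obtain ⟨h6, hodd⟩ := hquot
    have hne1 : (A.subgroupOf N).index ≠ 1 := by
      intro h1
      obtain ⟨g, hg⟩ : ∃ g, g * s * g⁻¹ = t := isConj_iff.1 (H.isConj_involution hx hs)
      have hgN : g ∈ N := by
        refine mem_normalizer_iff_map_conj_eq.2 (Subgroup.eq_of_le_of_card_ge ?_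
          (le_of_eq (Subgroup.card_map_of_injective (MulAut.conj g).injective).symm))
        rintro _ ⟨a, ha, rfl⟩
        rw [← hsteq] at ha
        refine mem_centralizer_singleton_iff.2 ?_
        show g * a * g⁻¹ * t = t * (g * a * g⁻¹)
        rw [← hg]
        calc g * a * g⁻¹ * (g * s * g⁻¹) = g * (a * s) * g⁻¹ := by group
          _ = g * (s * a) * g⁻¹ := by rw [mem_centralizer_singleton_iff.1 ha]
          _ = _ := by group
      rw [Subgroup.index_eq_one, Subgroup.subgroupOf_eq_top] at h1
      refine hsX ?_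
      have h2 : s = t := by
        rw [← hg, (hAab g (h1 hgN) s hst).eq, mul_inv_cancel_right]
      exact h2 ▸ pow_mem (mem_zpowers x) _
    rcases (show (A.subgroupOf N).index = 1 ∨ (A.subgroupOf N).index = 2 ∨
        (A.subgroupOf N).index = 3 ∨ (A.subgroupOf N).index = 6 by
      have := Nat.le_of_dvd (by norm_num) h6
      interval_cases (A.subgroupOf N).index <;> omega) with h | h | h | h
    · exact absurd h hne1
    · rw [h] at hodd; exact absurd hodd (by decide)
    · exact h
    · rw [h] at hodd; exact absurd hodd (by decide)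
  have hNc : Nat.card N = 2 * m * 3 := by
    rw [← (A.subgroupOf N).card_mul_index, hidx3,
      Nat.card_congr (Subgroup.subgroupOfEquivOfLe (le_normalizer : A ≤ N)).toEquiv, hA,
      (H.centralizer_invol hx).1]
  have hqk : N.index * 3 = q * k := by
    have h := N.card_mul_index
    rw [hNc, H.card] at h
    refine Nat.eq_of_mul_eq_mul_left (show 0 < 2 * m by omega) ?_
    rw [← mul_assoc, mul_right_comm, h]
    ring
  have hmod : N.index ≡ 1 [MOD 2 * m] := by
    have h := index_modEq_one A N le_normalizer (fun a ha a1 g hg => ?_)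
    · rwa [hA, (H.centralizer_invol hx).1] at h
    have hb1 : g⁻¹ * a * g ≠ 1 := fun e => a1 (by
      calc a = g * (g⁻¹ * a * g) * g⁻¹ := by group
        _ = 1 := by rw [e]; group)
    have hbA : g⁻¹ * a * g ∈ A := by
      by_contra hbA
      haveI : (A.subgroupOf N).Normal := Subgroup.normal_in_normalizer
      have hdiv : orderOf (g⁻¹ * a * g) ∣ m := by
        rw [show g⁻¹ * a * g = MulAut.conj g⁻¹ a by simp, MulEquiv.orderOf_eq]
        exact H.dvd_m_of_commute (hAab a ha t (mem_centralizer_singleton_iff.2 rfl))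
          (fun e => by have := H.orderOf_half hx; rw [← ht, e, orderOf_one] at this; exact absurd this (by norm_num))
          (by rw [ht, H.orderOf_half hx]; exact even_iff_two_dvd.1 H.m_even)
      have h3m : (3 : ℕ) ∣ m := by
        have h3 := orderOf_map_dvd (QuotientGroup.mk' (A.subgroupOf N))
          (⟨g⁻¹ * a * g, hg⟩ : N)
        rw [Subgroup.orderOf_mk] at h3
        have h4 : orderOf ((QuotientGroup.mk' (A.subgroupOf N)) ⟨g⁻¹ * a * g, hg⟩) ∣ 3 :=
          (_root_.orderOf_dvd_natCard _).trans (dvd_of_eq hidx3)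
        rcases (Nat.dvd_prime Nat.prime_three).1 h4 with h5 | h5
        · exfalso
          rw [orderOf_eq_one_iff, QuotientGroup.mk'_apply, QuotientGroup.eq_one_iff,
            mem_subgroupOf] at h5
          exact hbA h5
        · exact h5 ▸ h3.trans hdiv
      exact absurd (Nat.eq_one_of_dvd_coprimes (H.co_qm.symm.mul_right H.co_mk) h3m
        (hqk ▸ dvd_mul_left 3 N.index)) (by norm_num)
    -- `A` is a TI subgroup
    refine mem_normalizer_iff_map_conj_eq.2 ?_ |> fun h => inv_mem_iff.1 h
    refine Subgroup.eq_of_le_of_card_ge ?_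
      (le_of_eq (Subgroup.card_map_of_injective (MulAut.conj g⁻¹).injective).symm)
    rintro _ ⟨z, hz, rfl⟩
    rw [← hCA _ hbA hb1]
    refine mem_centralizer_singleton_iff.2 ?_
    show g⁻¹ * z * (g⁻¹)⁻¹ * (g⁻¹ * a * g) = g⁻¹ * a * g * (g⁻¹ * z * (g⁻¹)⁻¹)
    calc g⁻¹ * z * (g⁻¹)⁻¹ * (g⁻¹ * a * g) = g⁻¹ * (z * a) * g := by group
      _ = g⁻¹ * (a * z) * g := by rw [(hAab z hz a ha).eq]
      _ = _ := by group
  have hmod3 : q * k ≡ 3 [MOD 2 * m] := by
    rw [← hqk]
    simpa using hmod.mul_right 3
  have hm2 : m ∣ 2 := by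
    have h1 : q * k ≡ 1 [MOD m] := by
      rcases H.near with h | h
      · obtain ⟨j, hj⟩ : ∃ j, k = j + 1 := ⟨k - 1, by have := H.k_three; omega⟩
        rw [H.q_eq, show (m + k) * k = 1 + m * (2 * j + 1) by subst h; subst hj; ring]
        simpa using (Nat.modEq_zero_iff_dvd.2 (dvd_mul_right m _)).add_left 1
      · rw [H.q_eq, show (m + k) * k = 1 + m * (2 * m + 3) by subst h; ring]
        simpa using (Nat.modEq_zero_iff_dvd.2 (dvd_mul_right m _)).add_left 1
    exact (Nat.modEq_iff_dvd' (by norm_num)).1 (h1.symm.trans (hmod3.of_dvd (dvd_mul_left m 2)))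
  have hm : m = 2 := le_antisymm (Nat.le_of_dvd two_pos hm2) H.two_le_m
  exact hh2 (by
    rw [← pow_two, ← orderOf_dvd_iff_pow_eq_one]
    exact (orderOf_dvd_of_mem_zpowers hh).trans (dvd_of_eq (hx.trans hm)))

end Hyp

end CfsgLib.SmallGroups.PSLSpectrum
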