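import Cfsg.Agent.Lib.SmallGroups.PSLSpectrum.Involution

/-!
# A group with the order and element orders of `PSL(2, q)`, `q` odd, is a two-dimensional linear group
-/

set_option autoImplicit false

namespace CfsgLib.SmallGroups.PSLSpectrum

open Subgroup
open scoped commutatorElement

universe u

variable {G : Type u} [Group G] {p q m k : ℕ}

namespace Hyp

variable (H : Hyp G p q m k) [Finite G]

include H

theorem not_comm : ¬ IsMulCommutative G := by
  haveI := H.isSimpleGroup
  refine CfsgLib.SmallGroups.not_isMulCommutative_of_not_prime ?_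
  rw [H.card]
  have h2 := H.two_le_m
  have h3 := H.k_three
  exact Nat.not_prime_mul (by have := H.q_eq; nlinarith) (by omega)

theorem index_two_centralizer {x : G} (hx : orderOf x = m) :
    ((zpowers x).subgroupOf (centralizer ({x ^ (m / 2)} : Set G))).index = 2 := by
  have hle : zpowers x ≤ centralizer ({x ^ (m / 2)} : Set G) := by
    rw [zpowers_le, mem_centralizer_singleton_iff]
    exact ((Commute.refl x).pow_right _).eq
  have h := Subgroup.card_mul_index ((zpowers x).subgroupOf (centralizer ({x ^ (m / 2)} : Set G)))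
  rw [Nat.card_congr (Subgroup.subgroupOfEquivOfLe hle).toEquiv, Nat.card_zpowers, hx,
    (H.centralizer_invol hx).1, mul_comm 2 m] at h
  exact Nat.eq_of_mul_eq_mul_left (by have := H.two_le_m; omega) h

/-- The outer involution inverts `⟨x⟩`. -/
theorem inverts_x {x s : G} (hx : orderOf x = m) (hs : orderOf s = 2)
    (hst : s ∈ centralizer ({x ^ (m / 2)} : Set G)) (hsX : s ∉ zpowers x) :
    s * x * s⁻¹ = x⁻¹ := by
  classical
  haveI : Fact (Nat.Prime 2) := ⟨Nat.prime_two⟩
  haveI := H.isSimpleGroup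
  set t := x ^ (m / 2) with ht
  set C := centralizer ({t} : Set G) with hC
  have ht2 : orderOf t = 2 := H.orderOf_half hx
  have hidx : ((zpowers x).subgroupOf C).index = 2 := H.index_two_centralizer hx
  have hxC : x ∈ C := mem_centralizer_singleton_iff.2 ((Commute.refl x).pow_right _).eq
  have hn : ((zpowers x).subgroupOf C).Normal := Subgroup.normal_of_index_eq_two hidx
  have hy : s * x * s⁻¹ ∈ zpowers x :=
    hn.conj_mem ⟨x, hxC⟩ (mem_zpowers x) ⟨s, hst⟩
  have ss : s * s = 1 := by rw [← pow_two, ← hs, pow_orderOf_eq_one]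
  have sinv : s⁻¹ = s := inv_eq_of_mul_eq_one_left ss
  have tt : t * t = 1 := by rw [← pow_two, ← ht2, pow_orderOf_eq_one]
  obtain ⟨e, he⟩ := hy
  simp only at he
  have hfix : s * (x * (s * x * s⁻¹)) = x * (s * x * s⁻¹) * s := by
    have hc : x * (s * x * s⁻¹) = (s * x * s⁻¹) * x := by
      rw [← he]; exact ((Commute.refl x).zpow_right e).eq
    calc s * (x * (s * x * s⁻¹)) = (s * x * s⁻¹) * ((s * s) * x * (s * s)⁻¹) * s := by group
      _ = (s * x * s⁻¹) * x * s := by rw [ss, one_mul, inv_one, mul_one]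
      _ = _ := by rw [hc]
  rcases H.fixed_le hx hs hst hsX (mul_mem (mem_zpowers x) (he ▸ zpow_mem (mem_zpowers x) e)) hfix
    with h1 | h1
  · exact eq_inv_of_mul_eq_one_right h1
  exfalso
  have hB : s * x * s⁻¹ = x⁻¹ * t := eq_inv_mul_of_mul_eq h1
  have hxt : Commute x t := (Commute.refl x).pow_right _
  have hm2 := H.two_le_m
  -- `m / 2` is even
  obtain ⟨i, hi⟩ : Even (m / 2) := by
    rw [← Nat.not_odd_iff_even]
    rintro ⟨j, hj⟩
    have h2 : s * t * s⁻¹ = t := by
      rw [mem_centralizer_singleton_iff.1 hst, mul_inv_cancel_right]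
    have h3 : t ^ (m / 2) = t := by rw [hj, pow_succ, pow_mul, pow_two, tt, one_pow, one_mul]
    have h4 : s * t * s⁻¹ = 1 := by
      conv_lhs => rw [ht, ← conj_pow, hB, (hxt.inv_left).mul_pow, inv_pow, ← ht, h3,
        inv_mul_cancel]
    rw [h2] at h4
    rw [h4, orderOf_one] at ht2
    exact absurd ht2 (by norm_num)
  -- the subgroup generated by `x²` and `s`
  have hx2n : zpowers s ≤ normalizer (zpowers (x ^ 2) : Set G) := by
    refine zpowers_le.2 ?_
    have key : ∀ z ∈ zpowers (x ^ 2), s * z * s⁻¹ ∈ zpowers (x ^ 2) := by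
      rintro _ ⟨l, rfl⟩
      refine ⟨-l, ?_⟩
      show (x ^ 2) ^ (-l) = s * (x ^ 2) ^ l * s⁻¹
      rw [← conj_zpow, ← conj_pow, hB, (hxt.inv_left).mul_pow, inv_pow, pow_two t, tt, mul_one,
        inv_zpow, zpow_neg]
    refine mem_normalizer_iff.2 fun z => ⟨key z, fun hz => ?_⟩
    have h2 := key _ hz
    rwa [show s * (s * z * s⁻¹) * s⁻¹ = (s * s) * z * (s * s)⁻¹ by group, ss, one_mul, inv_one,
      mul_one] at h2
  set M := zpowers s ⊔ zpowers (x ^ 2) with hM
  have hMC : M ≤ C := sup_le (zpowers_le.2 hst) (zpowers_le.2 (pow_mem hxC 2))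
  have hMcard : Nat.card M = m := by
    have h := CfsgLib.LocalEven.JComp.card_sup_mul_inf_of_le_normalizer
      (A := zpowers s) (B := zpowers (x ^ 2)) hx2n
    rw [sup_comm, inf_comm, mul_comm (Nat.card (zpowers (x ^ 2)))] at h
    have hinf : zpowers s ⊓ zpowers (x ^ 2) = ⊥ := by
      rw [eq_bot_iff_forall]
      rintro z hz
      obtain ⟨⟨a, rfl⟩, hz2⟩ := mem_inf.1 hz
      simp only at hz2 ⊢
      obtain ⟨b, rfl | rfl⟩ := Int.even_or_odd' a
      · rw [zpow_mul, show s ^ (2 : ℤ) = 1 by rw [zpow_two, ss], one_zpow]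
      · exfalso
        rw [zpow_add, zpow_mul, show s ^ (2 : ℤ) = 1 by rw [zpow_two, ss], one_zpow, one_mul,
          zpow_one] at hz2
        exact hsX ((zpowers_le.2 (pow_mem (mem_zpowers x) 2)) hz2)
    obtain ⟨j, hj⟩ := H.m_even
    rw [hinf, card_bot, mul_one, Nat.card_zpowers, Nat.card_zpowers, hs,
      orderOf_pow_of_dvd (by norm_num) ⟨j, by rw [hx, hj]; ring⟩, hx] at h
    rw [h, hj]
    omega
  have hMidx : (M.subgroupOf C).index = 2 := by
    have h := (M.subgroupOf C).card_mul_index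
    rw [Nat.card_congr (Subgroup.subgroupOfEquivOfLe hMC).toEquiv, hMcard, hC,
      (H.centralizer_invol hx).1, mul_comm 2 m] at h
    exact Nat.eq_of_mul_eq_mul_left (by omega) h
  have hxM : x ∉ M := fun h => hsX (by
    rw [Subgroup.eq_of_le_of_card_ge (zpowers_le.2 h) (by rw [hMcard, Nat.card_zpowers, hx])]
    exact mem_sup_left (mem_zpowers s))
  have hsM : s ∈ M := mem_sup_left (mem_zpowers s)
  have hpar : ∀ n : ℤ, Even n → x ^ n ∈ M := by
    rintro n ⟨l, rfl⟩
    refine mem_sup_right ⟨l, ?_⟩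
    show (x ^ 2) ^ l = x ^ (l + l)
    rw [← zpow_natCast, ← zpow_mul, two_mul l |>.symm]
    norm_num
  have htM : t ∈ M := by
    rw [ht, ← zpow_natCast]
    exact hpar _ ⟨i, by rw [hi]; push_cast; ring⟩
  -- the shape of the elements of `C`
  have hform : ∀ a ∈ C, (∃ n : ℤ, a = x ^ n) ∨ ∃ n : ℤ, a = x ^ n * s := by
    intro a ha
    by_cases haX : a ∈ zpowers x
    · obtain ⟨n, rfl⟩ := haX; exact Or.inl ⟨n, rfl⟩
    · have h4 := (Subgroup.mul_mem_iff_of_index_two hidx (a := ⟨a, ha⟩) (b := ⟨s, hst⟩)).2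
        (by simp [Subgroup.mem_subgroupOf, haX, hsX])
      obtain ⟨n, hn'⟩ : a * s ∈ zpowers x := by simpa [Subgroup.mem_subgroupOf] using h4
      simp only at hn'
      exact Or.inr ⟨n, by rw [hn', mul_assoc, ss, mul_one]⟩
  have hinvol : ∀ a ∈ C, a * a = 1 → a ∈ M := by
    intro a ha ha2
    rcases eq_or_ne a 1 with rfl | ha1
    · exact one_mem _
    rcases hform a ha with ⟨n, rfl⟩ | ⟨n, rfl⟩
    · have h5 : x ^ n = t := unique_invol (zpow_mem (mem_zpowers x) n) (pow_mem (mem_zpowers x) _)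
        (orderOf_eq_prime (by rw [pow_two, ha2]) ha1) ht2
      exact h5 ▸ htM
    · refine mul_mem (hpar n ?_) hsM
      rw [← Int.not_odd_iff_even]
      rintro ⟨l, rfl⟩
      have h5 : x ^ (2 * l + 1) * s * (x ^ (2 * l + 1) * s) = t := by
        calc x ^ (2 * l + 1) * s * (x ^ (2 * l + 1) * s)
            = x ^ (2 * l + 1) * (s * x * s⁻¹) ^ (2 * l + 1) * (s * s) := by rw [conj_zpow]; group
          _ = t := by
            rw [ss, mul_one, hB, (hxt.inv_left).mul_zpow, inv_zpow, ← mul_assoc, mul_inv_cancel,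
              one_mul, zpow_add, zpow_mul, zpow_two, tt, one_zpow, one_mul, zpow_one]
      rw [ha2] at h5
      rw [← h5, orderOf_one] at ht2
      exact absurd ht2 (by norm_num)
  obtain ⟨S, j, hjodd, hjS, hjidx, htS⟩ := H.exists_sylow_cyclic hx
  have hSC : (S : Subgroup G) ≤ C := by
    intro a ha
    have hidx2 : ((zpowers (x ^ j)).subgroupOf (S : Subgroup G)).index = 2 := hjidx
    have hn2 := Subgroup.normal_of_index_eq_two hidx2
    have h5 := hn2.conj_mem ⟨t, zpowers_le.2 hjS htS⟩ htS ⟨a, ha⟩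
    have h6 : a * t * a⁻¹ = t := unique_invol h5 htS
      (by rw [show a * t * a⁻¹ = MulAut.conj a t from rfl, MulEquiv.orderOf_eq, ht2]) ht2
    exact mem_centralizer_singleton_iff.2 (mul_inv_eq_iff_eq_mul.1 h6)
  have hpow : ∀ y ∈ (S : Subgroup G), y * y ≠ 1 → ∃ l : ℕ, orderOf y = 2 ^ (l + 2) ∧ y ^ 2 ^ (l + 1) = t := by
    intro y hy hy2
    obtain ⟨n, hn'⟩ := IsPGroup.iff_orderOf.1 S.2 ⟨y, hy⟩
    rw [Subgroup.orderOf_mk] at hn'
    obtain ⟨l, rfl⟩ : ∃ l, n = l + 2 := ⟨n - 2, by
      by_contra hlt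
      refine hy2 ?_
      rw [← pow_two, ← orderOf_dvd_iff_pow_eq_one, hn']
      exact (pow_dvd_pow 2 (show n ≤ 1 by omega)).trans (pow_one 2).dvd⟩
    have hyy : y * y ∈ zpowers x := by
      simpa [Subgroup.mem_subgroupOf] using
        Subgroup.mul_self_mem_of_index_two hidx ⟨y, hSC hy⟩
    refine ⟨l, hn', unique_invol ?_ (pow_mem (mem_zpowers x) _) ?_ ht2⟩
    · rw [pow_succ', pow_mul, pow_two]
      exact pow_mem hyy _
    · rw [orderOf_pow_of_dvd (by positivity) ⟨2, by rw [hn', pow_succ]⟩, hn', pow_succ' 2 (l + 1),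
        Nat.mul_div_cancel _ (by positivity)]
  have hfoc : (S : Subgroup G).focalSubgroup ≤ M := by
    rw [Subgroup.focalSubgroup_def, Subgroup.closure_le]
    rintro g ⟨hg, a, ha, u, rfl⟩
    have hb : u * a⁻¹ * u⁻¹ ∈ (S : Subgroup G) := by
      have h2 := mul_mem (inv_mem ha) hg
      rwa [commutatorElement_def, show a⁻¹ * (a * u * a⁻¹ * u⁻¹) = u * a⁻¹ * u⁻¹ by group] at h2
    refine Subgroup.mem_carrier.1 ?_
    show ⁅a, u⁆ ∈ M
    by_cases ha2 : a * a = 1
    · rw [commutatorElement_def, show a * u * a⁻¹ * u⁻¹ = a * (u * a⁻¹ * u⁻¹) by group]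
      refine mul_mem (hinvol a (hSC ha) ha2) (hinvol _ (hSC hb) ?_)
      calc u * a⁻¹ * u⁻¹ * (u * a⁻¹ * u⁻¹) = u * (a * a)⁻¹ * u⁻¹ := by group
        _ = 1 := by rw [ha2, inv_one, mul_one, mul_inv_cancel]
    · have hb2 : u * a⁻¹ * u⁻¹ * (u * a⁻¹ * u⁻¹) ≠ 1 := fun e => ha2 (by
        rw [show u * a⁻¹ * u⁻¹ * (u * a⁻¹ * u⁻¹) = u * (a * a)⁻¹ * u⁻¹ by group, mul_inv_eq_one,
          mul_eq_left] at e
        exact inv_eq_one.1 e)
      obtain ⟨l, hl, hlt⟩ := hpow a ha ha2
      obtain ⟨l', hl', hlt'⟩ := hpow _ hb hb2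
      have hll : l = l' := by
        rw [show u * a⁻¹ * u⁻¹ = MulAut.conj u a⁻¹ from rfl, MulEquiv.orderOf_eq, orderOf_inv, hl] at hl'
        have := Nat.pow_right_injective le_rfl hl'
        omega
      rw [← hll, conj_pow, inv_pow, hlt, inv_eq_of_mul_eq_one_left tt] at hlt'
      have hu : u ∈ C := mem_centralizer_singleton_iff.2 (mul_inv_eq_iff_eq_mul.1 hlt')
      have hc := CfsgLib.PGroup.SelfCentSimple.Ctx.commutator_mem_of_index_two hMidx
        (⟨a, hSC ha⟩ : C) ⟨u, hu⟩
      exact hc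
  have hjM : x ^ j ∈ M := hfoc (by
    rw [CfsgLib.PGroup.SelfCentSimple.focal_eq_of_simple H.not_comm 2 S]; exact hjS)
  obtain ⟨l, hl⟩ := hjodd
  refine hxM ((Subgroup.mul_mem_cancel_left M ?_).1 (show x ^ (2 * l) * x ∈ M by
    rwa [← pow_succ, ← hl]))
  rw [pow_mul]
  exact mem_sup_right (pow_mem (mem_zpowers _) l)

/-- Recognition. -/
theorem nonempty_psl :
    ∃ (K : Type) (_ : Field K) (_ : Fintype K), ringChar K ≠ 2 ∧
      Nonempty (G ≃* Matrix.ProjectiveSpecialLinearGroup (Fin 2) K) := by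
  classical
  haveI := H.isSimpleGroup
  obtain ⟨x, hx⟩ := H.exm
  obtain ⟨hcard, s, hs, hst, hsX⟩ := H.centralizer_invol hx
  set t := x ^ (m / 2) with ht
  have ht2 : orderOf t = 2 := H.orderOf_half hx
  set C := centralizer ({t} : Set G) with hC
  have hidx : ((zpowers x).subgroupOf C).index = 2 := H.index_two_centralizer hx
  have hXC : zpowers x ≤ C := by
    rw [zpowers_le]
    exact mem_centralizer_singleton_iff.2 ((Commute.refl x).pow_right _).eq
  have hinvx := H.inverts_x hx hs hst hsX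
  have ss : s * s = 1 := by rw [← pow_two, ← hs, pow_orderOf_eq_one]
  obtain ⟨Q, D, hG, hQ, -, hD, hQD, hN, -⟩ := Cfsg.Agent.S3282.result t ht2 (zpowers x)
    inferInstance hXC (pow_mem (mem_zpowers x) _) s hs hst hsX
    (by
      refine le_antisymm (sup_le hXC (zpowers_le.2 hst)) fun a ha => ?_
      by_cases haX : a ∈ zpowers x
      · exact mem_sup_left haX
      · have h4 := (Subgroup.mul_mem_iff_of_index_two hidx (a := ⟨a, ha⟩) (b := ⟨s, hst⟩)).2
          (by simp [Subgroup.mem_subgroupOf, haX, hsX])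
        rw [show a = a * s * s⁻¹ by group]
        exact mul_mem (mem_sup_left (by simpa [Subgroup.mem_subgroupOf] using h4))
          (inv_mem (mem_sup_right (mem_zpowers s))))
    (by
      ext h
      refine ⟨fun hh => ?_, fun hh => ?_⟩
      · obtain ⟨h1, h2⟩ := mem_inf.1 hh
        rcases H.fixed_le hx hs hst hsX h1 (mem_centralizer_singleton_iff.1 h2).symm with rfl | rfl
        · exact one_mem _
        · exact mem_zpowers _
      · obtain ⟨i, rfl⟩ := hh
        exact zpow_mem (mem_inf.2 ⟨pow_mem (mem_zpowers x) _,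
          mem_centralizer_singleton_iff.2 (mem_centralizer_singleton_iff.1 hst).symm⟩) i)
    (fun a ha => by
      obtain ⟨i, rfl⟩ := ha
      show s * x ^ i * s⁻¹ = _
      rw [← conj_zpow, hinvx, inv_zpow])
    (fun g hg => by
      rw [eq_bot_iff_forall]
      intro a ha
      obtain ⟨h1, h2⟩ := mem_inf.1 ha
      obtain ⟨b, hb, hbe⟩ := Subgroup.mem_map.1 h2
      simp only [MulEquiv.coe_toMonoidHom, MulAut.conj_apply] at hbe
      by_contra hne
      have hb1 : b ≠ 1 := fun e => hne (by rw [← hbe, e, mul_one, mul_inv_cancel])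
      apply hg
      rw [mem_centralizer_singleton_iff]
      by_cases hbt : a = t
      · have h3 : b = t := unique_invol hb (pow_mem (mem_zpowers x) _) (by
          rw [← (MulAut.conj g).orderOf_eq b, MulAut.conj_apply, hbe, hbt, ht2]) ht2
        rw [hbt, h3] at hbe
        exact mul_inv_eq_iff_eq_mul.1 hbe
      · -- the centraliser of `a` is `⟨x⟩`
        have hCa : centralizer ({a} : Set G) = zpowers x := by
          have hle : zpowers x ≤ centralizer ({a} : Set G) := by
            rw [zpowers_le, mem_centralizer_singleton_iff]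
            obtain ⟨i, rfl⟩ := h1
            exact ((Commute.refl x).zpow_right i).eq
          obtain ⟨l, hl⟩ : m ∣ Nat.card (centralizer ({a} : Set G)) := by
            rw [← hx, ← Nat.card_zpowers]; exact Subgroup.card_dvd_of_le hle
          have hm0 : 0 < m := by have := H.two_le_m; omega
          have hl2 : l ∣ 2 := Nat.dvd_of_mul_dvd_mul_left hm0 (by
            have := H.centralizer_card_m hne (hx ▸ orderOf_dvd_of_mem_zpowers h1)
            rwa [hl, mul_comm 2 m] at this)
          rcases (Nat.dvd_prime Nat.prime_two).1 hl2 with rfl | rfl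
          · exact (Subgroup.eq_of_le_of_card_ge hle (by rw [hl, mul_one, Nat.card_zpowers, hx])).symm
          · exfalso
            have hidx3 : ((zpowers x).subgroupOf (centralizer ({a} : Set G))).index = 2 := by
              have h := Subgroup.card_mul_index ((zpowers x).subgroupOf (centralizer ({a} : Set G)))
              rw [Nat.card_congr (Subgroup.subgroupOfEquivOfLe hle).toEquiv, Nat.card_zpowers, hx, hl] at h
              exact Nat.eq_of_mul_eq_mul_left hm0 h
            have hn := Subgroup.normal_of_index_eq_two hidx3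
            -- everything centralising `a` centralises `t`, so `s` does centralise `a`
            have hsub : centralizer ({a} : Set G) ≤ C := by
              intro c hc
              have h5 := hn.conj_mem ⟨t, hle (pow_mem (mem_zpowers x) _)⟩ (pow_mem (mem_zpowers x) _)
                ⟨c, hc⟩
              have h6 : c * t * c⁻¹ = t := unique_invol h5 (pow_mem (mem_zpowers x) _)
                (by rw [show c * t * c⁻¹ = MulAut.conj c t from rfl, MulEquiv.orderOf_eq, ht2]) ht2
              exact mem_centralizer_singleton_iff.2 (mul_inv_eq_iff_eq_mul.1 h6)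
            have heq := Subgroup.eq_of_le_of_card_ge hsub (by rw [hcard, hl, mul_comm 2 m])
            have hsa := mem_centralizer_singleton_iff.1 (heq.ge hst)
            rcases H.fixed_le hx hs hst hsX h1 hsa with h7 | h7
            · exact hne h7
            · exact hbt h7
        have key : g * x * g⁻¹ ∈ zpowers x := by
          rw [← hCa, mem_centralizer_singleton_iff, ← hbe]
          obtain ⟨i, rfl⟩ := hb
          calc g * x * g⁻¹ * (g * x ^ i * g⁻¹) = g * (x * x ^ i) * g⁻¹ := by group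
            _ = g * (x ^ i * x) * g⁻¹ := by rw [((Commute.refl x).zpow_right i).eq]
            _ = _ := by group
        have h6 : g * t * g⁻¹ = t := unique_invol (by
            rw [ht, ← conj_pow]
            exact pow_mem key _) (pow_mem (mem_zpowers x) _)
          (by rw [show g * t * g⁻¹ = MulAut.conj g t from rfl, MulEquiv.orderOf_eq, ht2]) ht2
        exact mul_inv_eq_iff_eq_mul.1 h6)
    (fun a b ha hb => (H.isConj_involution hx ha).trans (H.isConj_involution hx hb).symm)
  exact CfsgLib.PGroup.SelfCentSimple.psl_of_self_cent_kernel H.not_comm Q D hG hQ hD hQD hN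

end Hyp

end CfsgLib.SmallGroups.PSLSpectrum
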