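import Cfsg.Agent.Lib.SmallGroups.PSLSpectrum.Components
import Cfsg.Agent.Lib.FGS.ThompsonKernel

/-!
# A group with the order and the element orders of `PSL(2, q)`, `q` odd, is simple
-/

set_option autoImplicit false

namespace CfsgLib.SmallGroups.PSLSpectrum

universe u

/-- The order and the element orders of `PSL(2, q)` for odd `q`, where `{m, k} = {(q - 1)/2, (q + 1)/2}`
and `m` is even. -/
structure Hyp (G : Type u) [Group G] (p q m k : ℕ) : Prop where
  hp : p.Prime
  q_pow : ∃ f, q = p ^ f
  m_even : Even m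
  k_odd : Odd k
  k_three : 3 ≤ k
  q_eq : q = m + k
  near : m = k + 1 ∨ k = m + 1
  card : Nat.card G = 2 * q * m * k
  spec : ∀ g : G, orderOf g ∣ p ∨ orderOf g ∣ m ∨ orderOf g ∣ k
  exm : ∃ x : G, orderOf x = m
  exk : ∃ y : G, orderOf y = k

variable {G : Type u} [Group G] {p q m k : ℕ}

namespace Hyp

variable (H : Hyp G p q m k)

include H

theorem two_le_m : 2 ≤ m := by
  have := H.near; have := H.k_three; omega

theorem co_mk : m.Coprime k := by
  rcases H.near with h | h <;> subst h <;> simp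

theorem p_dvd_q : p ∣ q := by
  obtain ⟨f, hf⟩ := H.q_pow
  rcases Nat.eq_zero_or_pos f with rfl | h
  · exfalso; have := H.q_eq; have := H.k_three; have := H.two_le_m; rw [pow_zero] at hf; omega
  · exact hf ▸ dvd_pow_self p h.ne'

theorem co_qm : q.Coprime m := by
  rw [H.q_eq, Nat.coprime_self_add_left]; exact H.co_mk.symm

theorem co_qk : q.Coprime k := by
  rw [H.q_eq, Nat.coprime_add_self_left]; exact H.co_mk

theorem co_pm : p.Coprime m := H.co_qm.coprime_dvd_left H.p_dvd_q

theorem co_pk : p.Coprime k := H.co_qk.coprime_dvd_left H.p_dvd_q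

theorem q_odd : Odd q := H.q_eq ▸ H.m_even.add_odd H.k_odd

theorem three_le_p : 3 ≤ p := by
  have h1 := H.hp.two_le
  rcases eq_or_ne p 2 with rfl | h
  · exact absurd (even_iff_two_dvd.2 H.p_dvd_q) (Nat.not_even_iff_odd.2 H.q_odd)
  · omega

theorem spec_k (g : G) : orderOf g ∣ k ∨ orderOf g ∣ p * m := by
  rcases H.spec g with h | h | h
  · exact Or.inr (h.mul_right m)
  · exact Or.inr (h.mul_left p)
  · exact Or.inl h

theorem spec_m (g : G) : orderOf g ∣ m ∨ orderOf g ∣ p * k := by
  rcases H.spec g with h | h | h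
  · exact Or.inr (h.mul_right k)
  · exact Or.inl h
  · exact Or.inr (h.mul_left p)

theorem dvd_k_of_commute {g h : G} (hc : Commute g h) (h1 : h ≠ 1) (hh : orderOf h ∣ k) :
    orderOf g ∣ k :=
  dvd_of_commute (H.co_pk.symm.mul_right H.co_mk.symm) H.spec_k hc h1 hh

theorem dvd_m_of_commute {g h : G} (hc : Commute g h) (h1 : h ≠ 1) (hh : orderOf h ∣ m) :
    orderOf g ∣ m :=
  dvd_of_commute (H.co_pm.symm.mul_right H.co_mk) H.spec_m hc h1 hh

variable [Finite G]

theorem centralizer_card_k {h : G} (h1 : h ≠ 1) (hh : orderOf h ∣ k) :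
    Nat.card (Subgroup.centralizer ({h} : Set G)) ∣ k :=
  card_centralizer_dvd (H.co_pk.symm.mul_right H.co_mk.symm) H.spec_k H.card
    (((Nat.coprime_two_right.2 H.k_odd).mul_right H.co_qk.symm).mul_right H.co_mk.symm) h1 hh

theorem centralizer_card_m {h : G} (h1 : h ≠ 1) (hh : orderOf h ∣ m) :
    Nat.card (Subgroup.centralizer ({h} : Set G)) ∣ 2 * m :=
  card_centralizer_dvd (H.co_pm.symm.mul_right H.co_mk) H.spec_m
    (b := q * k) (by rw [H.card]; ring) (H.co_qm.symm.mul_right H.co_mk) h1 hh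

/-- The cyclic subgroup of order `k` is the centraliser of each of its non-trivial elements. -/
theorem centralizer_eq {y h : G} (hy : orderOf y = k) (hh : h ∈ Subgroup.zpowers y) (h1 : h ≠ 1) :
    Subgroup.centralizer ({h} : Set G) = Subgroup.zpowers y := by
  refine (Subgroup.eq_of_le_of_card_ge (Subgroup.zpowers_le.2 ?_) ?_).symm
  · rw [Subgroup.mem_centralizer_singleton_iff]
    obtain ⟨i, rfl⟩ := hh
    exact ((Commute.refl y).zpow_right i).eq
  · rw [Nat.card_zpowers, hy]
    exact Nat.le_of_dvd (by have := H.k_three; omega)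
      (H.centralizer_card_k h1 (hy ▸ orderOf_dvd_of_mem_zpowers hh))

theorem mem_normalizer {y a g : G} (hy : orderOf y = k) (ha : a ∈ Subgroup.zpowers y) (a1 : a ≠ 1)
    (hg : g⁻¹ * a * g ∈ Subgroup.zpowers y) :
    g ∈ Subgroup.normalizer (Subgroup.zpowers y : Set G) := by
  have hb1 : g⁻¹ * a * g ≠ 1 := fun e => a1 (by
    calc a = g * (g⁻¹ * a * g) * g⁻¹ := by group
      _ = 1 := by rw [e]; group)
  have key : ∀ z ∈ Subgroup.zpowers y, g⁻¹ * z * g ∈ Subgroup.zpowers y := by
    intro z hz
    rw [← H.centralizer_eq hy hg hb1, Subgroup.mem_centralizer_singleton_iff]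
    rw [← H.centralizer_eq hy ha a1, Subgroup.mem_centralizer_singleton_iff] at hz
    calc g⁻¹ * z * g * (g⁻¹ * a * g) = g⁻¹ * (z * a) * g := by group
      _ = g⁻¹ * (a * z) * g := by rw [hz]
      _ = _ := by group
  rw [← inv_mem_iff]
  refine (Subgroup.mem_normalizer_iff_map_conj_eq).2 (Subgroup.eq_of_le_of_card_ge ?_ ?_)
  · rintro _ ⟨z, hz, rfl⟩
    simpa using key z hz
  · rw [Subgroup.card_map_of_injective (MulEquiv.injective _)]

/-- The normaliser of the subgroup of order `k` has order `2 k`. -/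
theorem card_normalizer {y : G} (hy : orderOf y = k) :
    Nat.card (Subgroup.normalizer (Subgroup.zpowers y : Set G)) = 2 * k := by
  classical
  set Y := Subgroup.zpowers y with hY
  set M := Subgroup.normalizer (Y : Set G) with hM
  have hle : Y ≤ M := Subgroup.le_normalizer
  set Y' := Y.subgroupOf M with hY'
  haveI : Y'.Normal := Subgroup.normal_in_normalizer
  have hk0 : 0 < k := by have := H.k_three; omega
  have hcY : Nat.card Y' = k := by
    rw [Nat.card_congr (Subgroup.subgroupOfEquivOfLe hle).toEquiv, hY, Nat.card_zpowers, hy]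
  have hMc : Nat.card M = k * Y'.index := by rw [← hcY, Subgroup.card_mul_index]
  have he : Y'.index * M.index = 2 * q * m := by
    have h := M.card_mul_index
    rw [hMc, H.card, mul_assoc, mul_comm _ k] at h
    exact Nat.eq_of_mul_eq_mul_left hk0 h
  have hco : k.Coprime Y'.index :=
    (((Nat.coprime_two_right.2 H.k_odd).mul_right H.co_qk.symm).mul_right
      H.co_mk.symm).coprime_dvd_right ⟨_, he.symm⟩
  have hmem : ∀ a ∈ M, orderOf a ∣ k → a ∈ Y := by
    intro a ha hd
    have h1 : (QuotientGroup.mk' Y') ⟨a, ha⟩ = 1 := orderOf_eq_one_iff.1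
      (Nat.eq_one_of_dvd_coprimes hco
        ((orderOf_map_dvd _ _).trans (by rw [Subgroup.orderOf_mk]; exact hd))
        (orderOf_dvd_natCard _))
    rwa [QuotientGroup.mk'_apply, QuotientGroup.eq_one_iff, hY', Subgroup.mem_subgroupOf] at h1
  have hmod : M.index ≡ 1 [MOD k] := by
    have h := index_modEq_one Y M hle fun a ha a1 g hg =>
      H.mem_normalizer hy ha a1 (hmem _ hg (by
        rw [show g⁻¹ * a * g = MulAut.conj g⁻¹ a by simp, MulEquiv.orderOf_eq]
        exact hy ▸ orderOf_dvd_of_mem_zpowers ha))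
    rwa [hY, Nat.card_zpowers, hy] at h
  have hlt : Y'.index < k := by
    have hy1 : y ≠ 1 := fun e => by
      rw [e, orderOf_one] at hy; have := H.k_three; omega
    let f : M ⧸ Y' → {z : Y // z ≠ 1} := fun c =>
      ⟨⟨(c.out : G) * y * (c.out : G)⁻¹,
        ((Subgroup.mem_normalizer_iff.1 c.out.2) y).1 (Subgroup.mem_zpowers y)⟩,
        fun e => hy1 (by simpa using congrArg Subtype.val e)⟩
    have hf : Function.Injective f := by
      intro c d e
      have e' : (c.out : G) * y * (c.out : G)⁻¹ = (d.out : G) * y * (d.out : G)⁻¹ :=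
        congrArg Subtype.val (congrArg Subtype.val e)
      rw [← QuotientGroup.out_eq' c, ← QuotientGroup.out_eq' d, QuotientGroup.eq]
      show (((c.out)⁻¹ * d.out : M) : G) ∈ Y
      have hc : (c.out : G)⁻¹ * (d.out : G) ∈ Subgroup.centralizer ({y} : Set G) := by
        rw [Subgroup.mem_centralizer_singleton_iff]
        calc (c.out : G)⁻¹ * (d.out : G) * y
            = (c.out : G)⁻¹ * ((d.out : G) * y * (d.out : G)⁻¹) * (d.out : G) := by group
          _ = (c.out : G)⁻¹ * ((c.out : G) * y * (c.out : G)⁻¹) * (d.out : G) := by rw [e']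
          _ = _ := by group
      rw [H.centralizer_eq hy (Subgroup.mem_zpowers y) hy1] at hc
      simpa using hc
    have h := Nat.card_le_card_of_injective f hf
    rw [← Subgroup.index] at h
    refine h.trans_lt ?_
    calc Nat.card {z : Y // z ≠ 1} < Nat.card Y := Finite.card_subtype_lt (x := 1) (by simp)
      _ = k := by rw [hY, Nat.card_zpowers, hy]
  have hqm : 2 * q * m ≡ 2 [MOD k] := by
    rcases H.near with h | h
    · rw [H.q_eq, show 2 * (m + k) * m = 2 + k * (4 * k + 6) by subst h; ring]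
      simpa using (Nat.modEq_zero_iff_dvd.2 (dvd_mul_right k _)).add_left 2
    · obtain ⟨j, hj⟩ : ∃ j, m = j + 2 := ⟨m - 2, by have := H.two_le_m; omega⟩
      rw [H.q_eq, show 2 * (m + k) * m = 2 + k * (4 * j + 6) by subst h; subst hj; ring]
      simpa using (Nat.modEq_zero_iff_dvd.2 (dvd_mul_right k _)).add_left 2
  have h2 : Y'.index ≡ 2 [MOD k] :=
    (by simpa using (hmod.mul_left Y'.index).symm : Y'.index ≡ Y'.index * M.index [MOD k]).trans
      (he ▸ hqm)
  have h3 : Y'.index = 2 := h2.eq_of_lt_of_lt hlt (by have := H.k_three; omega)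
  rw [hMc, h3, mul_comm]

/-- Elements of the normaliser outside the subgroup of order `k` are inverting involutions. -/
theorem inverts {y w : G} (hy : orderOf y = k)
    (hw : w ∈ Subgroup.normalizer (Subgroup.zpowers y : Set G)) (hwY : w ∉ Subgroup.zpowers y) :
    w * w = 1 ∧ w * y * w⁻¹ = y⁻¹ := by
  set Y := Subgroup.zpowers y with hY
  set M := Subgroup.normalizer (Y : Set G) with hM
  have hidx : (Y.subgroupOf M).index = 2 := by
    have h := (Y.subgroupOf M).card_mul_index
    rw [Nat.card_congr (Subgroup.subgroupOfEquivOfLe Subgroup.le_normalizer).toEquiv, hY,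
      Nat.card_zpowers, hy, H.card_normalizer hy, mul_comm 2 k] at h
    exact Nat.eq_of_mul_eq_mul_left (by have := H.k_three; omega) h
  have hww : w * w ∈ Y := by
    simpa [Subgroup.mem_subgroupOf] using Subgroup.mul_self_mem_of_index_two hidx ⟨w, hw⟩
  have key : ∀ z ∈ Y, w * z = z * w → z = 1 := by
    intro z hz hc
    by_contra hz1
    apply hwY
    rw [hY, ← H.centralizer_eq hy hz hz1, Subgroup.mem_centralizer_singleton_iff]
    exact hc
  refine ⟨key _ hww (mul_assoc w w w).symm, ?_⟩
  obtain ⟨i, hi⟩ : w * y * w⁻¹ ∈ Y :=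
    ((Subgroup.mem_normalizer_iff.1 hw) y).1 (Subgroup.mem_zpowers y)
  simp only at hi
  have h2 : w * w * y = y * (w * w) := by
    obtain ⟨j, hj⟩ := hww
    simp only at hj
    rw [← hj]
    exact ((Commute.refl y).zpow_left j).eq
  have h3 : w * (y * (w * y * w⁻¹)) = y * (w * y * w⁻¹) * w := by
    calc w * (y * (w * y * w⁻¹))
        = w * y * w⁻¹ * ((w * w * y) * (w * w)⁻¹) * w := by group
      _ = w * y * w⁻¹ * y * w := by rw [h2]; group
      _ = _ := by rw [← hi, ((Commute.refl y).zpow_left i).eq]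
  exact eq_inv_of_mul_eq_one_right
    (key _ (mul_mem (Subgroup.mem_zpowers y) (hi ▸ zpow_mem (Subgroup.mem_zpowers y) i)) h3)

theorem exists_outside {y : G} (hy : orderOf y = k) :
    ∃ w ∈ Subgroup.normalizer (Subgroup.zpowers y : Set G), w ∉ Subgroup.zpowers y := by
  by_contra h
  push Not at h
  have h1 := Subgroup.card_le_of_le (show Subgroup.normalizer (Subgroup.zpowers y : Set G) ≤
    Subgroup.zpowers y from h)
  rw [H.card_normalizer hy, Nat.card_zpowers, hy] at h1
  have := H.k_three
  omega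

/-- An `r`-subgroup containing a non-trivial element of the subgroup of order `k` lies in it. -/
theorem le_of_pGroup {y h : G} (hy : orderOf y = k) (hh : h ∈ Subgroup.zpowers y) (h1 : h ≠ 1)
    {r : ℕ} [Fact r.Prime] {X : Subgroup G} (hX : IsPGroup r X) (hhX : h ∈ X) :
    X ≤ Subgroup.zpowers y := by
  haveI : Nontrivial X := ⟨⟨⟨h, hhX⟩, 1, fun e => h1 (congrArg Subtype.val e)⟩⟩
  haveI := hX.center_nontrivial
  obtain ⟨⟨z, hz⟩, hz1⟩ := exists_ne (1 : Subgroup.center X)
  have hz1' : (z : G) ≠ 1 := fun e => hz1 (Subtype.ext (Subtype.ext e))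
  have hzY : (z : G) ∈ Subgroup.zpowers y := by
    rw [← H.centralizer_eq hy hh h1, Subgroup.mem_centralizer_singleton_iff]
    exact (congrArg Subtype.val (Subgroup.mem_center_iff.1 hz ⟨h, hhX⟩)).symm
  intro x hx
  rw [← H.centralizer_eq hy hzY hz1', Subgroup.mem_centralizer_singleton_iff]
  exact congrArg Subtype.val (Subgroup.mem_center_iff.1 hz ⟨x, hx⟩)

theorem normalizer_ne_top {y : G} (hy : orderOf y = k) :
    Subgroup.normalizer (Subgroup.zpowers y : Set G) ≠ ⊤ := by
  intro h
  have h1 := H.card_normalizer hy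
  rw [h, Subgroup.card_top, H.card] at h1
  have h2 := H.two_le_m
  have h3 := H.k_three
  have h4 : 5 ≤ q := by have := H.q_eq; omega
  have h5 : 5 * 2 ≤ q * m := Nat.mul_le_mul h4 h2
  have : q * m * (2 * k) = 1 * (2 * k) := by rw [one_mul]; exact (by ring : _ = 2 * q * m * k).trans h1
  have := Nat.eq_of_mul_eq_mul_right (by omega) this
  omega

/-- A minimal normal subgroup meeting the subgroup of order `k` is the whole group. -/
theorem eq_top_of_meet {y h : G} (hy : orderOf y = k) {N : Subgroup G} [N.Normal]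
    (hmin : ∀ K : Subgroup G, K.Normal → K ≤ N → K = ⊥ ∨ K = N)
    (hhN : h ∈ N) (hh : h ∈ Subgroup.zpowers y) (h1 : h ≠ 1) : N = ⊤ := by
  classical
  obtain ⟨r, hr, hrd⟩ := Nat.exists_prime_and_dvd (fun e => h1 (orderOf_eq_one_iff.1 e))
  haveI := Fact.mk hr
  set h' := h ^ (orderOf h / r) with hh'
  have ho : orderOf h' = r := orderOf_pow_orderOf_div (orderOf_pos h).ne' hrd
  have h'1 : h' ≠ 1 := fun e => hr.one_lt.ne' (by rw [← ho, e, orderOf_one])
  have h'Y : h' ∈ Subgroup.zpowers y := pow_mem hh _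
  have h'N : h' ∈ N := pow_mem hhN _
  set M := Subgroup.normalizer (Subgroup.zpowers y : Set G) with hM
  obtain ⟨P, hP⟩ : ∃ P : Sylow r N, Subgroup.zpowers (⟨h', h'N⟩ : N) ≤ P :=
    (IsPGroup.of_card (n := 1) (by rw [Nat.card_zpowers, Subgroup.orderOf_mk, ho, pow_one])).exists_le_sylow
  set P0 := (P : Subgroup N).map N.subtype with hP0
  have hh'P : h' ∈ P0 := ⟨⟨h', h'N⟩, hP (Subgroup.mem_zpowers _), rfl⟩
  have hP0Y : P0 ≤ Subgroup.zpowers y := H.le_of_pGroup hy h'Y h'1 (P.2.map _) hh'P
  have hnorm : Subgroup.normalizer (P0 : Set G) ≤ M := fun g hg =>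
    H.mem_normalizer hy h'Y h'1 (hP0Y (by
      simpa using ((Subgroup.mem_normalizer_iff.1 (inv_mem hg)) h').1 hh'P))
  have hMN : M ⊔ N = ⊤ :=
    top_le_iff.1 ((Sylow.normalizer_sup_eq_top P).ge.trans (sup_le_sup_right hnorm _))
  by_cases hw : ∃ w ∈ N, w ∈ M ∧ w ∉ Subgroup.zpowers y
  · obtain ⟨w, hwN, hwM, hwY⟩ := hw
    have hi := (H.inverts hy hwM hwY).2
    have hy2 : y ^ 2 ∈ N := by
      have hc := mul_mem hwN (Subgroup.Normal.conj_mem inferInstance w⁻¹ (inv_mem hwN) y)
      rw [show w * (y * w⁻¹ * y⁻¹) = w * y * w⁻¹ * y⁻¹ by group, hi] at hc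
      rw [pow_two]
      simpa using inv_mem hc
    have hyN : y ∈ N := by
      obtain ⟨j, hj⟩ := H.k_odd
      have h3 : (y ^ 2) ^ (j + 1) = y := by
        rw [← pow_mul, show 2 * (j + 1) = k + 1 by omega, pow_succ, ← hy, pow_orderOf_eq_one, one_mul]
      exact h3 ▸ pow_mem hy2 _
    have hidx : ((Subgroup.zpowers y).subgroupOf M).index = 2 := by
      have h := ((Subgroup.zpowers y).subgroupOf M).card_mul_index
      rw [Nat.card_congr (Subgroup.subgroupOfEquivOfLe Subgroup.le_normalizer).toEquiv,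
        Nat.card_zpowers, hy, H.card_normalizer hy, mul_comm 2 k] at h
      exact Nat.eq_of_mul_eq_mul_left (by have := H.k_three; omega) h
    have hMle : M ≤ N := by
      intro a ha
      by_cases haY : a ∈ Subgroup.zpowers y
      · exact (Subgroup.zpowers_le.2 hyN) haY
      · have h4 := (Subgroup.mul_mem_iff_of_index_two hidx (a := ⟨a, ha⟩) (b := ⟨w, hwM⟩)).2
          (by simp [Subgroup.mem_subgroupOf, haY, hwY])
        have h5 : a * w ∈ N := Subgroup.zpowers_le.2 hyN (by simpa [Subgroup.mem_subgroupOf] using h4)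
        exact (Subgroup.mul_mem_cancel_right N hwN).1 h5
    rwa [sup_eq_right.2 hMle] at hMN
  · push Not at hw
    exfalso
    have hcent : Subgroup.normalizer ((P : Subgroup N) : Set N) ≤
        Subgroup.centralizer ((P : Subgroup N) : Set N) := by
      intro n hn
      have hnY : (n : G) ∈ Subgroup.zpowers y := by
        refine hw n n.2 (hnorm ((Subgroup.mem_normalizer_iff_map_conj_eq).2
          (Subgroup.eq_of_le_of_card_ge ?_ (le_of_eq (Subgroup.card_map_of_injective (K := P0) (f := (MulAut.conj (n : G)).toMonoidHom) (MulAut.conj (n : G)).injective).symm))))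
        rintro _ ⟨_, ⟨z, hz, rfl⟩, rfl⟩
        exact ⟨n * z * n⁻¹, ((Subgroup.mem_normalizer_iff.1 hn) z).1 hz, by simp⟩
      rw [Subgroup.mem_centralizer_iff]
      intro z hz
      have hzY : (z : G) ∈ Subgroup.zpowers y := hP0Y ⟨z, hz, rfl⟩
      obtain ⟨i, hi⟩ := hnY
      obtain ⟨j, hj⟩ := hzY
      simp only at hi hj
      apply Subtype.ext
      show (z : G) * n = n * z
      rw [← hi, ← hj, ← zpow_add, ← zpow_add, add_comm]
    set K := (MonoidHom.transferSylow P hcent).ker with hK
    have hKc := MonoidHom.ker_transferSylow_isComplement' P hcent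
    have hKnd := MonoidHom.not_dvd_card_ker_transferSylow P hcent
    have hKmem : ∀ n : N, n ∈ K ↔ (orderOf n).Coprime r := by
      intro n
      refine ⟨fun hn => ?_, fun hn => ?_⟩
      · exact ((hr.coprime_iff_not_dvd.2 hKnd).symm).coprime_dvd_left
          (Subgroup.orderOf_dvd_natCard _ hn)
      · obtain ⟨e, he⟩ := IsPGroup.iff_card.1 P.2
        exact orderOf_eq_one_iff.1 (Nat.eq_one_of_dvd_coprimes (hn.pow_right e)
          (orderOf_map_dvd (MonoidHom.transferSylow P hcent) n)
          (he ▸ orderOf_dvd_natCard _))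
    have hKn : (K.map N.subtype).Normal := ⟨fun a ha g => by
      obtain ⟨n, hn, rfl⟩ := ha
      refine ⟨⟨g * n * g⁻¹, Subgroup.Normal.conj_mem inferInstance _ n.2 g⟩, (hKmem _).2 ?_, rfl⟩
      rw [← Subgroup.orderOf_coe]
      show (orderOf (MulAut.conj g (n : G))).Coprime r
      rw [MulEquiv.orderOf_eq, Subgroup.orderOf_coe]
      exact (hKmem n).1 hn⟩
    rcases hmin _ hKn (Subgroup.map_subtype_le K) with h2 | h2
    · rw [Subgroup.map_eq_bot_iff_of_injective _ N.subtype_injective] at h2
      rw [← hK, h2, Subgroup.isComplement'_bot_left] at hKc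
      have hNY : N ≤ Subgroup.zpowers y := fun a ha => hP0Y ⟨⟨a, ha⟩, by rw [hKc]; trivial, rfl⟩
      apply H.normalizer_ne_top hy
      rw [eq_top_iff, ← hMN]
      exact sup_le le_rfl (hNY.trans Subgroup.le_normalizer)
    · have h3 : h' ∈ K.map N.subtype := h2.ge h'N
      obtain ⟨n, hn, hn'⟩ := h3
      have h4 := (hKmem n).1 hn
      rw [← Subgroup.orderOf_coe, show (n : G) = h' from hn', ho] at h4
      exact hr.one_lt.ne' (Nat.eq_one_of_dvd_coprimes h4 dvd_rfl dvd_rfl)

/-- A group with this order and these element orders is simple. -/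
theorem eq_bot_or_top : ∀ (n : ℕ) (N : Subgroup G), Nat.card N = n → N.Normal → N = ⊥ ∨ N = ⊤ := by
  intro n
  induction n using Nat.strong_induction_on with
  | _ n ih =>
  intro N hcard hN
  haveI := hN
  rw [or_iff_not_imp_left]
  intro hN1
  by_contra hNtop
  have hmin : ∀ K : Subgroup G, K.Normal → K ≤ N → K = ⊥ ∨ K = N := by
    intro K hK hKN
    by_cases hKe : K = N
    · exact Or.inr hKe
    · have hlt : Nat.card K < n := by
        rw [← hcard]
        exact lt_of_le_of_ne (Subgroup.card_le_of_le hKN)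
          fun e => hKe (Subgroup.eq_of_le_of_card_ge hKN e.ge)
      rcases ih _ hlt K rfl hK with h | h
      · exact Or.inl h
      · exact absurd (top_le_iff.1 (h ▸ hKN)) hNtop
  obtain ⟨y, hy⟩ := H.exk
  have hmeet : ∀ z ∈ N, z ∈ Subgroup.zpowers y → z = 1 := fun z hz hzY => by
    by_contra h1
    exact hNtop (H.eq_top_of_meet hy hmin hz hzY h1)
  have hy1 : y ≠ 1 := fun e => by rw [e, orderOf_one] at hy; have := H.k_three; omega
  -- fixed-point-free action of the subgroup of order `k`
  have hfpf : ∀ a ∈ Subgroup.zpowers y, a ≠ 1 → ∀ z ∈ N, z * a = a * z → z = 1 := by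
    intro a ha a1 z hz hc
    refine hmeet z hz ?_
    rw [← H.centralizer_eq hy ha a1, Subgroup.mem_centralizer_singleton_iff]
    exact hc
  haveI hnil : Group.IsNilpotent N := by
    obtain ⟨r, hr, hrd⟩ := Nat.exists_prime_and_dvd (show k ≠ 1 by have := H.k_three; omega)
    refine CfsgLib.FGS.isNilpotent_of_fpf_element N hr
      (orderOf_pow_orderOf_div (orderOf_pos y).ne' (hy.symm ▸ hrd))
      (hfpf _ (pow_mem (Subgroup.mem_zpowers y) _) fun e => ?_)
    have h2 := orderOf_pow_orderOf_div (orderOf_pos y).ne' (hy.symm ▸ hrd : r ∣ orderOf y)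
    rw [e, orderOf_one] at h2
    exact hr.one_lt.ne h2
  -- `N` is an abelian `ℓ`-group
  obtain ⟨l, hl, hld⟩ := Nat.exists_prime_and_dvd (fun e => hN1 (Subgroup.eq_bot_of_card_eq N e))
  haveI := Fact.mk hl
  obtain ⟨P⟩ : Nonempty (Sylow l N) := inferInstance
  haveI hPn : (P : Subgroup N).Normal :=
    ((Group.isNilpotent_of_finite_tfae (G := N)).out 0 3 rfl rfl).1 hnil l inferInstance P
  haveI := Sylow.characteristic_of_normal P hPn
  have hPN : (P : Subgroup N).map N.subtype = N := by
    refine (hmin _ inferInstance (Subgroup.map_subtype_le _)).resolve_left fun e => ?_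
    exact Sylow.ne_bot_of_dvd_card P hld
      ((Subgroup.map_eq_bot_iff_of_injective _ N.subtype_injective).1 e)
  have hNp : IsPGroup l N := hPN ▸ P.2.map _
  have hab : ∀ a ∈ N, ∀ b ∈ N, a * b = b * a := by
    haveI : Nontrivial N := (Subgroup.nontrivial_iff_ne_bot N).2 hN1
    have hZ : (Subgroup.center N).map N.subtype = N := by
      refine (hmin _ inferInstance (Subgroup.map_subtype_le _)).resolve_left fun e => ?_
      haveI := hNp.center_nontrivial
      exact (Subgroup.nontrivial_iff_ne_bot _).1 inferInstance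
        ((Subgroup.map_eq_bot_iff_of_injective _ N.subtype_injective).1 e)
    intro a ha b hb
    obtain ⟨⟨a', ha'⟩, hz, rfl⟩ := hZ.ge ha
    exact (congrArg Subtype.val (Subgroup.mem_center_iff.1 hz ⟨b, hb⟩)).symm
  obtain ⟨e, he⟩ := IsPGroup.iff_card.1 hNp
  have hord : ∀ z ∈ N, orderOf z ∣ l ^ e := fun z hz => he ▸ Subgroup.orderOf_dvd_natCard _ hz
  by_cases hlp : l = p
  · -- involutions invert `N`
    have hinv : ∀ w ∈ Subgroup.normalizer (Subgroup.zpowers y : Set G), w ∉ Subgroup.zpowers y →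
        ∀ z ∈ N, w * z * w⁻¹ = z⁻¹ := by
      intro w hw hwY z hz
      have hw2 := (H.inverts hy hw hwY).1
      have hw1 : w ≠ 1 := fun e => hwY (e ▸ one_mem _)
      have hwo : orderOf w = 2 := orderOf_eq_prime (by rw [pow_two, hw2]) hw1
      have hz' : w * z * w⁻¹ ∈ N := Subgroup.Normal.conj_mem hN z hz w
      have hfix : Commute (z * (w * z * w⁻¹)) w := by
        show z * (w * z * w⁻¹) * w = w * (z * (w * z * w⁻¹))
        calc z * (w * z * w⁻¹) * w = (w * w) * z * (w * w)⁻¹ * (w * z * w⁻¹) * w := by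
              rw [hw2]; group
          _ = w * ((w * z * w⁻¹) * z) := by group
          _ = _ := by rw [hab _ hz' _ hz]
      have h5 : orderOf (z * (w * z * w⁻¹)) ∣ m :=
        H.dvd_m_of_commute hfix hw1 (hwo ▸ even_iff_two_dvd.1 H.m_even)
      refine eq_inv_of_mul_eq_one_right (orderOf_eq_one_iff.1
        (Nat.eq_one_of_dvd_coprimes (H.co_pm.pow_left e) ?_ h5))
      exact hlp ▸ hord _ (mul_mem hz hz')
    obtain ⟨w, hw, hwY⟩ := H.exists_outside hy
    apply hN1
    rw [Subgroup.eq_bot_iff_forall]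
    intro z hz
    refine hfpf y (Subgroup.mem_zpowers y) hy1 z hz ?_
    have h2 : (w * y) * z * (w * y)⁻¹ = z⁻¹ := hinv _
      (mul_mem hw (Subgroup.le_normalizer (Subgroup.mem_zpowers y)))
      (fun h => hwY ((Subgroup.mul_mem_cancel_right _ (Subgroup.mem_zpowers y)).1 h)) z hz
    have hz' : y * z * y⁻¹ ∈ N := Subgroup.Normal.conj_mem hN z hz y
    have h3 := hinv w hw hwY _ hz'
    rw [show w * (y * z * y⁻¹) * w⁻¹ = w * y * z * (w * y)⁻¹ by group, h2, inv_inj] at h3
    calc z * y = y * z * y⁻¹ * y := by rw [← h3]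
      _ = y * z := by group
  · -- `k` and `p` divide `|N| - 1`
    have hmodk : Nat.card N ≡ 1 [MOD k] := by
      letI : MulAction (Subgroup.zpowers y) {z : N // z ≠ 1} :=
        { smul := fun a z => ⟨⟨(a : G) * (z.1 : G) * (a : G)⁻¹,
            Subgroup.Normal.conj_mem hN _ z.1.2 a⟩, fun e => z.2 (Subtype.ext (by
              simpa using congrArg Subtype.val e))⟩
          one_smul := fun z => Subtype.ext (Subtype.ext (by
            show ((1 : Subgroup.zpowers y) : G) * (z.1 : G) * ((1 : Subgroup.zpowers y) : G)⁻¹ = _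
            simp))
          mul_smul := fun a b z => Subtype.ext (Subtype.ext (by
            show ((a * b : Subgroup.zpowers y) : G) * (z.1 : G) * ((a * b : Subgroup.zpowers y) : G)⁻¹ = _
            show _ = (a : G) * ((b : G) * (z.1 : G) * (b : G)⁻¹) * (a : G)⁻¹
            simp [mul_assoc])) }
      have hd := dvd_card_of_free (D := Subgroup.zpowers y) (X := {z : N // z ≠ 1}) fun a z hz => by
        by_contra ha
        have h2 : (a : G) * (z.1 : G) * (a : G)⁻¹ = (z.1 : G) :=
          congrArg (fun t : {z : N // z ≠ 1} => ((t.1 : N) : G)) hz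
        exact z.2 (Subtype.ext (hfpf a a.2 (fun h => ha (Subtype.ext h)) z.1 z.1.2
          (mul_inv_eq_iff_eq_mul.1 h2).symm))
      rw [Nat.card_zpowers, hy] at hd
      have hc : Nat.card N = Nat.card {z : N // z ≠ 1} + 1 := by
        classical
        haveI := Fintype.ofFinite N
        rw [Nat.card_eq_fintype_card, Nat.card_eq_fintype_card, Fintype.card_subtype_compl]
        simp only [Fintype.card_unique]
        have := Fintype.card_pos (α := N)
        omega
      rw [hc]
      simpa using (Nat.modEq_zero_iff_dvd.2 hd).add_right 1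
    have hlk : l.Coprime k := by
      rw [hl.coprime_iff_not_dvd]
      intro h
      have h2 := hmodk.of_dvd h
      rw [Nat.ModEq, Nat.mod_eq_zero_of_dvd hld, Nat.one_mod_eq_one.2 hl.one_lt.ne'] at h2
      exact one_ne_zero h2.symm
    have hlp' : l.Coprime p := (Nat.coprime_primes hl H.hp).2 hlp
    obtain ⟨f, hf⟩ := H.q_pow
    have h2m : Nat.card N ∣ 2 * m := by
      refine Nat.Coprime.dvd_of_dvd_mul_left ?_
        ((Subgroup.card_subgroup_dvd_card N).trans (show Nat.card G ∣ (q * k) * (2 * m) from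
          dvd_of_eq (by rw [H.card]; ring)))
      rw [he, hf]
      exact ((hlp'.pow_right f).mul_right hlk).pow_left e
    haveI := Fact.mk H.hp
    obtain ⟨u, hu⟩ := exists_prime_orderOf_dvd_card' (G := G) p (by
      rw [H.card]; exact ((H.p_dvd_q.mul_left 2).mul_right m).mul_right k)
    have hmodp : Nat.card N ≡ 1 [MOD p] := by
      letI : MulAction (Subgroup.zpowers u) N :=
        MulAction.compHom _ ((MulAut.conjNormal (H := N)).comp (Subgroup.zpowers u).subtype)
      have hgp : IsPGroup p (Subgroup.zpowers u) :=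
        IsPGroup.of_card (n := 1) (by rw [Nat.card_zpowers, hu, pow_one])
      refine (hgp.card_modEq_card_fixedPoints N).trans ?_
      suffices h1 : Nat.card (MulAction.fixedPoints (Subgroup.zpowers u) N) = 1 by rw [h1]
      rw [Nat.card_eq_one_iff_unique]
      refine ⟨⟨fun a b => ?_⟩, ⟨⟨1, fun a => map_one (MulAut.conjNormal (H := N) (a : G))⟩⟩⟩
      suffices ∀ c : MulAction.fixedPoints (Subgroup.zpowers u) N, (c : N) = 1 from
        Subtype.ext ((this a).trans (this b).symm)
      intro c
      have hc' := congrArg Subtype.val (c.2 ⟨u, Subgroup.mem_zpowers u⟩)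
      change ((MulAut.conjNormal (H := N) u (c : N) : N) : G) = ((c : N) : G) at hc'
      rw [MulAut.conjNormal_apply] at hc'
      have h5 : orderOf ((c : N) : G) ∣ p :=
        dvd_of_commute (H.co_pm.mul_right H.co_pk)
          (fun g => by
            rcases H.spec g with h | h | h
            · exact Or.inl h
            · exact Or.inr (h.mul_right k)
            · exact Or.inr (h.mul_left m))
          (mul_inv_eq_iff_eq_mul.1 hc').symm
          (fun e => by rw [e, orderOf_one] at hu; exact H.hp.one_lt.ne hu) hu.dvd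
      refine Subtype.ext (orderOf_eq_one_iff.1 ?_)
      exact Nat.eq_one_of_dvd_coprimes (hlp'.pow_left e) (hord _ (c : N).2) h5
    have hboth : Nat.card N ≡ 1 [MOD p * k] :=
      (Nat.modEq_and_modEq_iff_modEq_mul H.co_pk).1 ⟨hmodp, hmodk⟩
    have hgt : 1 < Nat.card N := by
      rw [he] at hld ⊢
      refine Nat.one_lt_pow (fun e0 => ?_) hl.one_lt
      rw [e0, pow_zero] at hld
      exact hl.ne_one (Nat.dvd_one.1 hld)
    have hd := (Nat.modEq_iff_dvd' hgt.le).1 hboth.symm
    have hle := Nat.le_of_dvd (by omega) hd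
    have hle2 := Nat.le_of_dvd (by have := H.two_le_m; omega) h2m
    have h3k : 3 * k ≤ p * k := Nat.mul_le_mul_right k H.three_le_p
    have := H.near
    have := H.k_three
    omega

theorem isSimpleGroup : IsSimpleGroup G := by
  haveI : Nontrivial G := by
    rw [← Finite.one_lt_card_iff_nontrivial, H.card]
    have h2 := H.two_le_m; have h3 := H.k_three; have h4 := H.q_eq
    have : 2 * 5 * 2 * 3 ≤ 2 * q * m * k := by gcongr; omega
    omega
  exact ⟨fun N hN => H.eq_bot_or_top _ N rfl hN⟩

end Hyp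

end CfsgLib.SmallGroups.PSLSpectrum
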